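import Groth.Prelude.Def_QuadSing
import Mathlib.Tactic

/-!
# Upper triangular tables
-/

set_option autoImplicit false

universe u

namespace Groth.Agent.QuadFormH2

open VanCyc
open scoped Matrix

variable {R : Type u} [CommRing R] {N : ℕ}

/-- The upper triangular table of the form `Σ d i j x_i x_j`. -/
def tri (d : Fin N → Fin N → R) : Fin N → Fin N → R :=
  fun i j => if i = j then d i i else if i < j then d i j + d j i else 0

theorem quadEval_tri (d : Fin N → Fin N → R) (x : Fin N → R) :
    quadEval (tri d) x = ∑ i, ∑ j, d i j * x i * x j := by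
  classical
  have key : ∀ i j : Fin N, (if i ≤ j then tri d i j * x i * x j else 0) =
      (if i ≤ j then d i j * x i * x j else 0) + (if i < j then d j i * x j * x i else 0) := by
    intro i j
    unfold tri
    rcases lt_trichotomy i j with h | h | h
    · simp [h.ne, h, h.le]; ring
    · simp [h]
    · simp [h.not_ge, h.le.not_gt, h.ne']
  simp only [quadEval, key, Finset.sum_add_distrib]
  rw [Finset.sum_comm (γ := Fin N) (f := fun i j => if i < j then d j i * x j * x i else 0), ← Finset.sum_add_distrib]
  refine Finset.sum_congr rfl fun i _ => ?_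
  rw [← Finset.sum_add_distrib]
  refine Finset.sum_congr rfl fun j _ => ?_
  rcases lt_trichotomy i j with h | h | h
  · simp [h.le, h.le.not_gt]
  · simp [h]
  · simp [h.not_ge, h]

theorem polarMatrix_tri (d : Fin N → Fin N → R) (i j : Fin N) : polarMatrix (tri d) i j = d i j + d j i := by
  unfold polarMatrix tri
  rcases lt_trichotomy i j with h | h | h
  · simp [h.ne, h]
  · simp [h, two_mul]
  · simp [h.ne, h.ne', h, h.le.not_gt, add_comm]

theorem polarMatrix_transpose (a : Fin N → Fin N → R) : (polarMatrix a)ᵀ = polarMatrix a := by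
  ext i j
  unfold polarMatrix
  rcases lt_trichotomy i j with h | h | h
  · simp [h.ne, h.ne', h, h.le.not_gt]
  · simp [h]
  · simp [h.ne, h.ne', h, h.le.not_gt]

theorem map_tri {S : Type u} [CommRing S] (φ : R →+* S) (d : Fin N → Fin N → R) (i j : Fin N) :
    φ (tri d i j) = tri (fun k l => φ (d k l)) i j := by
  unfold tri; split_ifs <;> simp

theorem map_quadEval' {S : Type u} [CommRing S] (φ : R →+* S) (a : Fin N → Fin N → R) (v : Fin N → R) :
    φ (quadEval a v) = quadEval (fun i j => φ (a i j)) (fun i => φ (v i)) := by
  simp only [quadEval, map_sum]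
  exact Finset.sum_congr rfl fun i _ => Finset.sum_congr rfl fun j _ => by split_ifs <;> simp

theorem quadEval_congr {a a' : Fin N → Fin N → R} (h : ∀ i j, i ≤ j → a i j = a' i j) (v : Fin N → R) :
    quadEval a v = quadEval a' v := by
  simp only [quadEval]
  exact Finset.sum_congr rfl fun i _ => Finset.sum_congr rfl fun j _ => by
    split_ifs with hij
    · rw [h i j hij]
    · rfl

theorem quadEval_add_table (a a' : Fin N → Fin N → R) (v : Fin N → R) :
    quadEval (fun i j => a i j + a' i j) v = quadEval a v + quadEval a' v := by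
  simp only [quadEval, ← Finset.sum_add_distrib]
  exact Finset.sum_congr rfl fun i _ => Finset.sum_congr rfl fun j _ => by split_ifs <;> ring

theorem quadEval_add (a : Fin N → Fin N → R) (v w : Fin N → R) :
    quadEval a (v + w) = quadEval a v + quadEval a w + (polarMatrix a *ᵥ v) ⬝ᵥ w := by
  classical
  have key : (polarMatrix a *ᵥ v) ⬝ᵥ w =
      ∑ i, ∑ j, if i ≤ j then a i j * (v i * w j + v j * w i) else 0 := by
    have h1 : ∀ i j : Fin N, polarMatrix a i j * v j * w i =
        (if i ≤ j then a i j * (v j * w i) else 0) + (if j ≤ i then a j i * (v j * w i) else 0) := by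
      intro i j
      unfold polarMatrix
      rcases lt_trichotomy i j with h | h | h
      · simp [h.ne, h, h.le, h.not_ge]; ring
      · simp [h]; ring
      · simp [h.ne', h.not_ge, h.le.not_gt, h.le]; ring
    simp only [dotProduct, Matrix.mulVec, Finset.sum_mul, h1, Finset.sum_add_distrib]
    rw [add_comm, Finset.sum_comm (γ := Fin N) (f := fun i j => if j ≤ i then a j i * (v j * w i) else 0),
      ← Finset.sum_add_distrib]
    refine Finset.sum_congr rfl fun i _ => ?_
    rw [← Finset.sum_add_distrib]
    exact Finset.sum_congr rfl fun j _ => by split_ifs <;> ring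
  rw [key]
  simp only [quadEval, ← Finset.sum_add_distrib, Pi.add_apply]
  exact Finset.sum_congr rfl fun i _ => Finset.sum_congr rfl fun j _ => by split_ifs <;> ring

theorem quadEval_mulVec (a : Fin N → Fin N → R) (V : Matrix (Fin N) (Fin N) R) (x : Fin N → R) :
    quadEval a (V *ᵥ x) =
      quadEval (tri fun i j => ∑ k, ∑ l, if k ≤ l then a k l * V k i * V l j else 0) x := by
  classical
  rw [quadEval_tri]
  have h1 : ∀ k l, (if k ≤ l then a k l * (V *ᵥ x) k * (V *ᵥ x) l else 0) =
      ∑ i, ∑ j, (if k ≤ l then a k l * V k i * V l j else 0) * x i * x j := by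
    intro k l
    split_ifs with hkl
    · simp only [Matrix.mulVec, dotProduct, Finset.mul_sum, Finset.sum_mul]
      rw [Finset.sum_comm]
      exact Finset.sum_congr rfl fun i _ => Finset.sum_congr rfl fun j _ => by ring
    · simp
  simp only [quadEval, h1, Finset.sum_mul]
  rw [Finset.sum_congr rfl fun k _ => Finset.sum_comm, Finset.sum_comm]
  refine Finset.sum_congr rfl fun i _ => ?_
  rw [Finset.sum_congr rfl fun k _ => Finset.sum_comm, Finset.sum_comm]

theorem quadPoly_aeval {S : Type u} [CommRing S] [Algebra R S] (a : Fin N → Fin N → R) (v : Fin N → S) :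
    MvPolynomial.aeval v (quadPoly a) = quadEval (fun i j => algebraMap R S (a i j)) v := by
  simp only [quadPoly, quadEval, map_sum]
  exact Finset.sum_congr rfl fun i _ => Finset.sum_congr rfl fun j _ => by split_ifs <;> simp

end Groth.Agent.QuadFormH2
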