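import Groth.Agent.QuadFormH2.Frame
import Groth.Agent.QuadFormH2.Tri
import Groth.Agent.HenselLib.Pair
import Mathlib.RingTheory.Unramified.Field
import Mathlib.FieldTheory.PurelyInseparable.Basic
import Mathlib.RingTheory.Henselian

/-!
# Sections through a non-degenerate critical point and quadratic normal forms
-/

set_option autoImplicit false
set_option linter.style.haveILetI false

universe u

open IsLocalRing TensorProduct
open scoped Matrix

namespace Groth.Agent.QuadFormH2

variable {A : Type u} [CommRing A] {C : Type u} [CommRing C] [Algebra A C] {N : ℕ}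

/-- An étale algebra with a point in a purely inseparable extension of the residue field has a rational point. -/
theorem surjective_of_etale_point [IsLocalRing A] [Algebra.Etale A C] {κ : Type u} [Field κ]
    [Algebra (ResidueField A) κ] [Algebra A κ] [IsScalarTower A (ResidueField A) κ]
    (hins : ∀ y : κ, ∃ (e : ℕ) (a : ResidueField A), algebraMap (ResidueField A) κ a = y ^ ringExpChar (ResidueField A) ^ e)
    (χ : C →ₐ[A] κ) (hgen : ∀ y : κ, ∃ c s, χ s ≠ 0 ∧ χ s * y = χ c) :
    Function.Surjective (algebraMap (ResidueField A) κ) := by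
  let k := ResidueField A
  haveI : IsPurelyInseparable k κ := (isPurelyInseparable_iff_pow_mem k (ringExpChar k)).2 fun y => by
    obtain ⟨e, a, ha⟩ := hins y
    exact ⟨e, a, ha⟩
  haveI : Algebra.IsAlgebraic k κ := IsPurelyInseparable.isAlgebraic k κ
  let χk : k ⊗[A] C →ₐ[k] κ := Algebra.TensorProduct.lift (Algebra.ofId k κ) χ fun _ _ => Commute.all _ _
  have hχk : ∀ c, χk ((1 : k) ⊗ₜ[A] c) = χ c := fun c => by
    show Algebra.TensorProduct.lift _ χ _ _ = _
    rw [Algebra.TensorProduct.lift_tmul, map_one, one_mul]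
  have hsurj : Function.Surjective χk := fun y => by
    obtain ⟨c, s, hs, hy⟩ := hgen y
    have hfield : IsField χk.range :=
      Subalgebra.isField_of_algebraic χk.range
    obtain ⟨w, hw⟩ := hfield.mul_inv_cancel (a := ⟨χ s, _, hχk s⟩) fun h => hs (congrArg Subtype.val h)
    have hw' : χ s * (w : κ) = 1 := congrArg Subtype.val hw
    obtain ⟨w', hw''⟩ := w.2
    refine ⟨w' * ((1 : k) ⊗ₜ[A] c), ?_⟩
    rw [map_mul, hχk, show χk w' = (w : κ) from hw'', ← hy]
    linear_combination y * hw'
  haveI : Algebra.FormallyUnramified k κ := Algebra.FormallyUnramified.of_surjective χk hsurj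
  haveI : Algebra.EssFiniteType k κ := Algebra.EssFiniteType.of_surjective χk hsurj
  haveI : Algebra.IsSeparable k κ := Algebra.FormallyUnramified.isSeparable k κ
  exact IsPurelyInseparable.surjective_algebraMap_of_isSeparable k κ

/-- The section through a non-degenerate critical point. -/
theorem exists_section [HenselianLocalRing A] {t : Fin N → C} (h : IsFrame A t) {κ : Type u} [Field κ]
    [Algebra (ResidueField A) κ] [Algebra A κ] [IsScalarTower A (ResidueField A) κ]
    (hins : ∀ y : κ, ∃ (e : ℕ) (a : ResidueField A), algebraMap (ResidueField A) κ a = y ^ ringExpChar (ResidueField A) ^ e)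
    (χ : C →ₐ[A] κ) (hgen : ∀ y : κ, ∃ c s, χ s ≠ 0 ∧ χ s * y = χ c) (F : C) (hgrad : ∀ i, χ (h.pd i F) = 0)
    (hH : χ (Matrix.of fun i j => h.pd i (h.pd j F)).det ≠ 0) :
    Function.Surjective (algebraMap (ResidueField A) κ) ∧
      ∃ μ : C →ₐ[A] A, (∀ i, μ (h.pd i F) = 0) ∧ ∀ c, algebraMap A κ (μ c) = χ c := by
  classical
  let H := (Matrix.of fun i j => h.pd i (h.pd j F)).det
  let C₁ := Localization.Away H
  let φ := algebraMap C C₁
  haveI : Algebra.Etale C C₁ := Algebra.Etale.of_isLocalizationAway H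
  have h₁ : IsFrame A fun i => φ (t i) := h.map
  let g : Fin N → C₁ := fun j => φ (h.pd j F)
  have hg : IsFrame A g := h₁.change (by
    have : (Matrix.of fun i j => h₁.pd i (g j)) = (Matrix.of fun i j => h.pd i (h.pd j F)).map φ := by
      ext i j
      exact h.pd_map h₁ (fun _ => rfl) i (h.pd j F)
    rw [this, ← RingHom.mapMatrix_apply, ← RingHom.map_det]
    exact IsLocalization.Away.algebraMap_isUnit H)
  let E := C₁ ⧸ Ideal.span (Set.range g)
  haveI : Algebra.Etale A E := hg.etale_quotient
  let χ₁ : C₁ →ₐ[A] κ := IsLocalization.Away.liftAlgHom H (f := χ) (isUnit_iff_ne_zero.2 hH)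
  have hχ₁ : ∀ c, χ₁ (φ c) = χ c := fun c =>
    IsLocalization.Away.lift_eq (g := χ.toRingHom) H (isUnit_iff_ne_zero.2 hH) c
  let χE : E →ₐ[A] κ := Ideal.Quotient.liftₐ _ χ₁ fun z hz => by
    have : Ideal.span (Set.range g) ≤ RingHom.ker χ₁ := Ideal.span_le.2 fun _ ⟨i, hi⟩ => hi ▸ (by
      show χ₁ (g i) = 0
      rw [hχ₁, hgrad])
    exact this hz
  have hχE : ∀ c, χE (Ideal.Quotient.mk _ (φ c)) = χ c := hχ₁
  have hsurj : Function.Surjective (algebraMap (ResidueField A) κ) :=
    surjective_of_etale_point hins χE fun y => by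
      obtain ⟨c, s, hs, hy⟩ := hgen y
      exact ⟨Ideal.Quotient.mk _ (φ c), Ideal.Quotient.mk _ (φ s), by rw [hχE]; exact hs, by rw [hχE, hχE]; exact hy⟩
  refine ⟨hsurj, ?_⟩
  let e : ResidueField A ≃ₐ[A] κ := AlgEquiv.ofBijective (IsScalarTower.toAlgHom A (ResidueField A) κ)
    ⟨RingHom.injective (algebraMap (ResidueField A) κ), hsurj⟩
  let σ : E →ₐ[A] A ⧸ maximalIdeal A := e.symm.toAlgHom.comp χE
  obtain ⟨τ, hτ⟩ := HenselLib.exists_lift_of_etale (maximalIdeal A) σ
  refine ⟨τ.comp ((Ideal.Quotient.mkₐ A _).comp (IsScalarTower.toAlgHom A C C₁)), fun i => ?_, fun c => ?_⟩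
  · show τ (Ideal.Quotient.mk _ (g i)) = 0
    rw [Ideal.Quotient.eq_zero_iff_mem.2 (Ideal.subset_span (Set.mem_range_self (f := g) i)), map_zero]
  · have h2 : Ideal.Quotient.mk (maximalIdeal A) (τ (Ideal.Quotient.mk _ (φ c))) =
        e.symm (χE (Ideal.Quotient.mk _ (φ c))) := AlgHom.congr_fun hτ _
    rw [← hχE c, ← e.apply_symm_apply (χE (Ideal.Quotient.mk _ (φ c))), ← h2]
    exact IsScalarTower.algebraMap_apply A (ResidueField A) κ _

/-- Coordinates centred at a section, generating its ideal after a localisation. -/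
theorem exists_centred {t : Fin N → C} (h : IsFrame A t) (μ : C →ₐ[A] A) :
    ∃ (w : C) (_ : μ w = 1), ∀ (C' : Type u) [CommRing C'] [Algebra C C'] [Algebra A C'] [IsScalarTower A C C']
      [IsLocalization.Away w C'] (μ' : C' →ₐ[A] A), (∀ c, μ' (algebraMap C C' c) = μ c) →
      ∃ h' : IsFrame A (fun i => algebraMap C C' (t i - algebraMap A C (μ (t i)))),
        (∀ x, μ' x = 0 → x ∈ Ideal.span (Set.range fun i => algebraMap C C' (t i - algebraMap A C (μ (t i))))) ∧
        ∀ i c, h'.pd i (algebraMap C C' c) = algebraMap C C' (h.pd i c) := by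
  classical
  obtain ⟨hs, hpd⟩ := h.exists_translate fun i => μ (t i)
  let s : Fin N → C := fun i => t i - algebraMap A C (μ (t i))
  have hμs : ∀ i, μ (s i) = 0 := fun i => by
    show μ (t i - algebraMap A C (μ (t i))) = 0
    rw [map_sub, μ.commutes]
    exact sub_self _
  let E := C ⧸ Ideal.span (Set.range s)
  haveI : Algebra.Etale A E := hs.etale_quotient
  let μE : E →ₐ[A] A := Ideal.Quotient.liftₐ _ μ fun z hz => by
    have : Ideal.span (Set.range s) ≤ RingHom.ker μ := Ideal.span_le.2 fun _ ⟨i, hi⟩ => hi ▸ hμs i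
    exact this hz
  obtain ⟨e, he, heker⟩ := exists_idempotent_of_retraction (C := A) (E := E) μE
  obtain ⟨w, hw⟩ := Ideal.Quotient.mk_surjective (1 - e : E)
  have hμw : μ w = 1 := by
    show μE (Ideal.Quotient.mk _ w) = 1
    rw [hw, map_sub, map_one, show μE e = 0 from heker.ge (Ideal.mem_span_singleton_self e), sub_zero]
  refine ⟨w, hμw, fun C' _ _ _ _ _ μ' hμ' => ?_⟩
  haveI : Algebra.Etale C C' := Algebra.Etale.of_isLocalizationAway w
  have hs' : IsFrame A fun i => algebraMap C C' (s i) := hs.map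
  refine ⟨hs', fun x hx => ?_, fun i c => by rw [hs.pd_map hs' (fun _ => rfl), hpd]⟩
  obtain ⟨z, ⟨_, j, rfl⟩, rfl⟩ := IsLocalization.exists_mk'_eq (Submonoid.powers w) x
  have hz : μ z = 0 := by
    have h1 := congrArg μ' (IsLocalization.mk'_spec C' z (⟨w ^ j, j, rfl⟩ : Submonoid.powers w))
    rw [map_mul, hx, zero_mul, hμ'] at h1
    exact h1.symm
  have hzE : Ideal.Quotient.mk (Ideal.span (Set.range s)) (z * w) = 0 := by
    obtain ⟨v, hv⟩ := Ideal.mem_span_singleton'.1 (heker.le (show μE (Ideal.Quotient.mk _ z) = 0 from hz))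
    rw [map_mul, ← hv, hw]
    linear_combination (-v) * he.eq
  have hzs : algebraMap C C' (z * w) ∈ Ideal.span (Set.range fun i => algebraMap C C' (s i)) := by
    have := Ideal.mem_map_of_mem (algebraMap C C') (Ideal.Quotient.eq_zero_iff_mem.1 hzE)
    rwa [Ideal.map_span, ← Set.range_comp] at this
  rw [IsLocalization.mk'_eq_mul_mk'_one]
  refine Ideal.mul_mem_right _ _ ?_
  rw [map_mul] at hzs
  exact (Ideal.mul_unit_mem_iff_mem _ (IsLocalization.Away.algebraMap_isUnit (S := C') w)).1 hzs

/-- A function with vanishing gradient along a section is a quadratic form in centred coordinates. -/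
theorem exists_quad {x : Fin N → C} (h : IsFrame A x) (μ : C →ₐ[A] A)
    (hker : ∀ c, μ c = 0 → c ∈ Ideal.span (Set.range x)) (hx : ∀ i, μ (x i) = 0) {F : C}
    (hF : ∀ i, μ (h.pd i F) = 0) :
    ∃ a : Fin N → Fin N → C, F = VanCyc.quadEval a x + algebraMap A C (μ F) ∧
      VanCyc.polarMatrix (fun i j => μ (a i j)) = (Matrix.of fun i j => h.pd i (h.pd j F)).map μ := by
  classical
  have hspan : ∀ c, μ c = 0 → ∃ p : Fin N → C, c = ∑ i, p i * x i := fun c hc => by
    obtain ⟨p, hp⟩ := (Submodule.mem_span_range_iff_exists_fun C).1 (hker c hc)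
    exact ⟨p, by simpa using hp.symm⟩
  obtain ⟨p, hp⟩ := hspan (F - algebraMap A C (μ F)) (by rw [map_sub, μ.commutes]; exact sub_self _)
  have hpd : ∀ j, h.pd j F = p j + ∑ i, x i * h.pd j (p i) := fun j => by
    have := congrArg (h.pd j) hp
    rw [map_sub, Derivation.map_algebraMap, sub_zero, map_sum] at this
    simp only [Derivation.leibniz, smul_eq_mul, h.pd_coord, mul_ite, mul_one, mul_zero, Finset.sum_add_distrib,
      Finset.sum_ite_eq, Finset.mem_univ, if_true] at this
    exact this
  have hp0 : ∀ j, μ (p j) = 0 := fun j => by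
    have := hF j
    rw [hpd, map_add, map_sum] at this
    simpa [hx] using this
  choose d hd using fun j => hspan _ (hp0 j)
  refine ⟨tri d, ?_, ?_⟩
  · rw [quadEval_tri, ← sub_eq_iff_eq_add, hp]
    refine Finset.sum_congr rfl fun i _ => ?_
    rw [hd i, Finset.sum_mul]
    exact Finset.sum_congr rfl fun j _ => by ring
  · ext i j
    have e : (fun i j => μ (tri d i j)) = tri fun k l => μ (d k l) := by
      funext i j; exact map_tri μ.toRingHom d i j
    rw [e, polarMatrix_tri, Matrix.map_apply, Matrix.of_apply, hpd]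
    have e2 : ∀ k l, μ (h.pd k (p l)) = μ (d l k) := fun k l => by
      rw [hd l, map_sum, map_sum, Finset.sum_eq_single k]
      · simp [Derivation.leibniz, h.pd_coord, hx]
      · intro b _ hb
        simp [Derivation.leibniz, h.pd_coord, hx, Ne.symm hb]
      · simp
    simp only [map_add, map_sum, Derivation.leibniz, smul_eq_mul, map_mul, e2, hx, zero_mul, zero_add, h.pd_coord,
      mul_ite, mul_one, mul_zero, apply_ite μ, map_zero, Finset.sum_ite_eq, Finset.mem_univ, if_true]
    ring

end Groth.Agent.QuadFormH2
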