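import Groth.Prelude.Def_EssEt
import Mathlib.RingTheory.Etale.Basic
import Mathlib.RingTheory.Localization.AtPrime.Basic
import Mathlib.RingTheory.TensorProduct.Basic

/-!
# Local rings of étale algebras without residue extension
-/

set_option autoImplicit false
set_option linter.style.haveILetI false

universe u

open IsLocalRing TensorProduct

namespace Groth.Agent.QuadFormH2

variable {R S : Type u} [CommRing R] [CommRing S] [Algebra R S] [Algebra.Etale R S]

/-- The local ring of an étale algebra at a prime without residue extension is strictly essentially étale. -/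
theorem strict_of_etale (p : Ideal R) [p.IsPrime] (Rp : Type u) [CommRing Rp] [IsLocalRing Rp] [Algebra R Rp]
    [IsLocalization.AtPrime Rp p] (q : Ideal S) [q.IsPrime] (hpq : q.comap (algebraMap R S) = p)
    [Algebra Rp (Localization.AtPrime q)] [IsLocalHom (algebraMap Rp (Localization.AtPrime q))]
    [IsScalarTower R Rp (Localization.AtPrime q)]
    (hres : ∀ s : S, ∃ r s' : R, s' ∉ p ∧ algebraMap R S s' * s - algebraMap R S r ∈ q) :
    EGA4loc.IsStrictlyEssentiallyEtale Rp (Localization.AtPrime q) := by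
  let Sq := Localization.AtPrime q
  have hcomp : ∀ r, algebraMap Rp Sq (algebraMap R Rp r) = algebraMap S Sq (algebraMap R S r) := fun r => by
    rw [← IsScalarTower.algebraMap_apply R Rp Sq, ← IsScalarTower.algebraMap_apply R S Sq]
  have instL : IsLocalHom (algebraMap Rp Sq) := ‹_›
  let C := Rp ⊗[R] S
  let ρ : C →ₐ[Rp] Sq := Algebra.TensorProduct.lift (Algebra.ofId Rp Sq) (IsScalarTower.toAlgHom R S Sq)
    fun _ _ => Commute.all _ _
  have hρ : ∀ s, ρ ((1 : Rp) ⊗ₜ[R] s) = algebraMap S Sq s := fun s => by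
    show Algebra.TensorProduct.lift _ _ _ _ = _
    rw [Algebra.TensorProduct.lift_tmul, map_one, one_mul]
    rfl
  let q' : Ideal C := (maximalIdeal Sq).comap ρ.toRingHom
  haveI hq' : q'.IsPrime := Ideal.IsPrime.comap _
  let Cq := Localization.AtPrime q'
  let ρ' : Cq →ₐ[Rp] Sq := IsLocalization.liftAlgHom (M := q'.primeCompl) (f := ρ) fun c => by
    have : ρ (c : C) ∉ maximalIdeal Sq := c.2
    rwa [mem_maximalIdeal, mem_nonunits_iff, not_not] at this
  have hρ' : ∀ c, ρ' (algebraMap C Cq c) = ρ c := fun c => IsLocalization.lift_eq _ c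
  let σ₀ : S →+* Cq :=
    (algebraMap C Cq).comp (Algebra.TensorProduct.includeRight (R := R) (A := Rp) (B := S)).toRingHom
  have hσ₀ : ∀ s : q.primeCompl, IsUnit (σ₀ s) := fun s => IsLocalization.map_units Cq
    (⟨(1 : Rp) ⊗ₜ[R] (s : S), fun h => by
      have h1 : ρ ((1 : Rp) ⊗ₜ[R] (s : S)) ∈ maximalIdeal Sq := h
      rw [hρ] at h1
      exact (mem_maximalIdeal _).1 h1 (IsLocalization.map_units Sq s)⟩ : q'.primeCompl)
  let σ₁ : Sq →+* Cq := IsLocalization.lift hσ₀
  have hσ₁ : ∀ s, σ₁ (algebraMap S Sq s) = algebraMap C Cq ((1 : Rp) ⊗ₜ[R] s) := fun s => IsLocalization.lift_eq _ s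
  let σ : Sq →ₐ[Rp] Cq :=
    { σ₁ with
      commutes' := fun x => RingHom.congr_fun (IsLocalization.ringHom_ext p.primeCompl
        (j := σ₁.comp (algebraMap Rp Sq)) (k := algebraMap Rp Cq) (RingHom.ext fun r => by
          show σ₁ (algebraMap Rp Sq (algebraMap R Rp r)) = algebraMap Rp Cq (algebraMap R Rp r)
          rw [hcomp, hσ₁, IsScalarTower.algebraMap_apply Rp C Cq, ← IsScalarTower.algebraMap_apply R Rp C,
            ← Algebra.TensorProduct.includeRight_apply, AlgHom.commutes])) x }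
  let e : Sq ≃ₐ[Rp] Cq := AlgEquiv.ofAlgHom σ ρ'
    (IsLocalization.algHom_ext q'.primeCompl (Algebra.TensorProduct.ext
      (AlgHom.ext fun x => (AlgHom.commutes _ x).trans (AlgHom.commutes _ x).symm)
      (AlgHom.ext fun s => by
        show σ₁ (ρ' (algebraMap C Cq ((1 : Rp) ⊗ₜ[R] s))) = algebraMap C Cq ((1 : Rp) ⊗ₜ[R] s)
        rw [hρ', hρ, hσ₁])))
    (AlgHom.ext fun x => RingHom.congr_fun (IsLocalization.ringHom_ext q.primeCompl
      (j := ρ'.toRingHom.comp σ₁) (k := RingHom.id Sq) (RingHom.ext fun s => by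
        show ρ' (σ₁ (algebraMap S Sq s)) = algebraMap S Sq s
        rw [hσ₁, hρ', hρ])) x)
  refine ⟨⟨C, inferInstance, inferInstance, q', hq', inferInstance, ?_, ⟨e⟩⟩, RingHom.injective _, fun y => ?_⟩
  · show ((maximalIdeal Sq).comap ρ.toRingHom).comap (algebraMap Rp C) = maximalIdeal Rp
    rw [Ideal.comap_comap, show ρ.toRingHom.comp (algebraMap Rp C) = algebraMap Rp Sq from RingHom.ext ρ.commutes]
    exact ((local_hom_TFAE (algebraMap Rp Sq)).out 0 4).1 instL
  · obtain ⟨z, rfl⟩ := residue_surjective y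
    obtain ⟨a, b, rfl⟩ := IsLocalization.exists_mk'_eq q.primeCompl z
    obtain ⟨r₁, s₁, hs₁, h₁⟩ := hres a
    obtain ⟨r₂, s₂, hs₂, h₂⟩ := hres b
    have hm : ∀ x ∈ q, algebraMap S Sq x ∈ maximalIdeal Sq := fun x hx =>
      (IsLocalization.AtPrime.to_map_mem_maximal_iff Sq q x).2 hx
    have hr₂ : r₂ ∉ p := fun h => by
      have h2' : algebraMap R S s₂ * b ∈ q := by
        simpa using add_mem h₂ (show algebraMap R S r₂ ∈ q from hpq.ge h)
      exact (Ideal.IsPrime.mem_or_mem ‹q.IsPrime› h2').elim (fun h' => hs₂ (hpq.le h')) b.2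
    refine ⟨residue Rp (IsLocalization.mk' Rp (r₁ * s₂) (⟨s₁ * r₂,
      fun h => (Ideal.IsPrime.mem_or_mem ‹p.IsPrime› h).elim hs₁ hr₂⟩ : p.primeCompl)), ?_⟩
    rw [ResidueField.map_residue]
    refine Ideal.Quotient.eq.2 ?_
    let μ := IsLocalization.mk' Rp (r₁ * s₂) (⟨s₁ * r₂,
      fun h => (Ideal.IsPrime.mem_or_mem ‹p.IsPrime› h).elim hs₁ hr₂⟩ : p.primeCompl)
    let ζ := IsLocalization.mk' Sq a b
    have e1 : algebraMap Rp Sq μ * algebraMap S Sq (algebraMap R S (s₁ * r₂)) =
        algebraMap S Sq (algebraMap R S (r₁ * s₂)) := by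
      rw [← hcomp, ← map_mul, IsLocalization.mk'_spec, hcomp]
    have e2 : ζ * algebraMap S Sq b = algebraMap S Sq a := IsLocalization.mk'_spec Sq a b
    have hu : IsUnit (algebraMap S Sq (algebraMap R S (s₁ * r₂) * b)) :=
      IsLocalization.map_units Sq (⟨algebraMap R S (s₁ * r₂) * (b : S), fun h =>
        (Ideal.IsPrime.mem_or_mem ‹q.IsPrime› h).elim
          (fun h' => (Ideal.IsPrime.mem_or_mem ‹p.IsPrime› (hpq.le h')).elim hs₁ hr₂) b.2⟩ : q.primeCompl)
    rw [← Ideal.mul_unit_mem_iff_mem _ hu,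
      show (algebraMap Rp Sq μ - ζ) * algebraMap S Sq (algebraMap R S (s₁ * r₂) * b) =
        algebraMap S Sq (algebraMap R S (r₁ * s₂) * b - algebraMap R S (s₁ * r₂) * a) by
        simp only [map_sub, map_mul] at e1 e2 ⊢; linear_combination algebraMap S Sq b * e1 - algebraMap S Sq (algebraMap R S s₁) * algebraMap S Sq (algebraMap R S r₂) * e2]
    refine hm _ ?_
    rw [show algebraMap R S (r₁ * s₂) * b - algebraMap R S (s₁ * r₂) * a =
      algebraMap R S r₁ * (algebraMap R S s₂ * b - algebraMap R S r₂) -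
        algebraMap R S r₂ * (algebraMap R S s₁ * a - algebraMap R S r₁) by rw [map_mul, map_mul]; ring]
    exact sub_mem (Ideal.mul_mem_left _ _ h₂) (Ideal.mul_mem_left _ _ h₁)

end Groth.Agent.QuadFormH2
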