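import Groth.Agent.QuadFormH2.Presentation
import Groth.Agent.QuadFormH2.Normal
import Groth.Agent.QuadFormH2.Strict
import Mathlib.RingTheory.RingHom.Etale

/-!
# The quadratic deformation as an étale neighbourhood
-/

set_option autoImplicit false
set_option linter.style.haveILetI false

universe u

open IsLocalRing TensorProduct

namespace Groth.Agent.QuadFormH2

/-- Étale ring maps descend to quotients. -/
theorem etale_quotientMap {P B : Type u} [CommRing P] [CommRing B] {f : P →+* B} (hf : f.Etale) (I : Ideal P) :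
    (Ideal.quotientMap (I.map f) f Ideal.le_comap_map).Etale := by
  algebraize [f]
  haveI : Algebra.Etale P B := hf
  letI : Algebra (P ⧸ I) (B ⧸ I.map f) := (Ideal.quotientMap (I.map f) f Ideal.le_comap_map).toAlgebra
  haveI : IsScalarTower P (P ⧸ I) (B ⧸ I.map f) := IsScalarTower.of_algebraMap_eq fun _ => rfl
  let e₀ := (Algebra.TensorProduct.comm P (P ⧸ I) B).trans
    ((Algebra.TensorProduct.quotIdealMapEquivTensorQuot B I).symm.restrictScalars P)
  let e : (P ⧸ I) ⊗[P] B ≃ₐ[P ⧸ I] B ⧸ I.map f :=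
    AlgEquiv.ofRingEquiv (f := e₀.toRingEquiv) fun z => by
      obtain ⟨z, rfl⟩ := Ideal.Quotient.mk_surjective z
      show e₀ (algebraMap (P ⧸ I) ((P ⧸ I) ⊗[P] B) (algebraMap P (P ⧸ I) z)) = _
      rw [← IsScalarTower.algebraMap_apply, e₀.commutes]
      rfl
  show Algebra.Etale (P ⧸ I) (B ⧸ I.map f)
  exact Algebra.Etale.of_equiv e

/-- The common strictly essentially étale neighbourhood of the family and of its normal form. -/
theorem exists_common_nbhd (A : Type u) [CommRing A] [HenselianLocalRing A] (B₀ : Type u) [CommRing B₀] [Algebra A B₀]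
    [Algebra.FinitePresentation A B₀] (P : Ideal B₀) [P.IsMaximal] (hP : (maximalIdeal A).map (algebraMap A B₀) ≤ P)
    (hPi : ∀ y : B₀, ∃ (e : ℕ) (c : A), y ^ ringExpChar (ResidueField A) ^ e - algebraMap A B₀ c ∈ P)
    [Module.Flat A (Localization.AtPrime P)] (n : ℕ)
    (hq : VanCyc.IsNondegQuadPt (VanCyc.fibHom A (Localization.AtPrime P)) n) :
    ∃ (a : Fin (n + 1) → Fin (n + 1) → A) (b : A), VanCyc.QuadNondeg a ∧ b ∈ maximalIdeal A ∧
      ∀ [(VanCyc.originQuot A a b).IsPrime], ∃ (R' : Type u) (_ : CommRing R') (_ : IsLocalRing R')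
        (_ : Algebra (Localization.AtPrime P) R') (_ : IsLocalHom (algebraMap (Localization.AtPrime P) R'))
        (_ : Algebra (Localization.AtPrime (VanCyc.originQuot A a b)) R')
        (_ : IsLocalHom (algebraMap (Localization.AtPrime (VanCyc.originQuot A a b)) R')),
        EGA4loc.IsStrictlyEssentiallyEtale (Localization.AtPrime P) R' ∧
        EGA4loc.IsStrictlyEssentiallyEtale (Localization.AtPrime (VanCyc.originQuot A a b)) R' ∧
          ∀ r : A, algebraMap (Localization.AtPrime P) R' (algebraMap A _ r) =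
            algebraMap (Localization.AtPrime (VanCyc.originQuot A a b)) R' (algebraMap A _ r) := by
  classical
  obtain ⟨C, _, _, t, ht, π, F, hπF, hπs, hπker, hgrad, hdet⟩ := exists_presentation A B₀ P hP hPi n hq
  let B := Localization.AtPrime P
  let k := ResidueField A
  let κ := ResidueField B
  haveI hAB : IsLocalHom (algebraMap A B) := ((local_hom_TFAE (algebraMap A B)).out 0 2).2 (by
    rw [IsScalarTower.algebraMap_eq A B₀ B, ← Ideal.map_map, ← Localization.AtPrime.map_eq_maximalIdeal]
    exact Ideal.map_mono hP)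
  letI : Algebra k κ := (ResidueField.map (algebraMap A B)).toAlgebra
  haveI : IsScalarTower A k κ := IsScalarTower.of_algebraMap_eq fun r => rfl
  have hins : ∀ y : κ, ∃ (e : ℕ) (a : k), algebraMap k κ a = y ^ ringExpChar k ^ e := fun y => by
    obtain ⟨z, hz⟩ := (IsLocalization.AtPrime.equivQuotMaximalIdeal P B).surjective y
    obtain ⟨b₀, rfl⟩ := Ideal.Quotient.mk_surjective z
    obtain ⟨e, c, hc⟩ := hPi b₀
    have hy : y = residue B (algebraMap B₀ B b₀) := hz ▸ rfl
    refine ⟨e, residue A c, ?_⟩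
    show residue B (algebraMap A B c) = _
    rw [hy, ← map_pow, ← map_pow, IsScalarTower.algebraMap_apply A B₀ B]
    refine (Ideal.Quotient.eq.2 ?_).symm
    rw [← map_sub]
    exact (IsLocalization.AtPrime.to_map_mem_maximal_iff B P _).2 hc
  let χ : C →ₐ[A] κ :=
    { (residue B).comp π.toRingHom with
      commutes' := fun r => by
        show residue B (π (algebraMap A C r)) = _
        rw [π.commutes]
        rfl }
  have hχ : ∀ c, χ c = residue B (π c) := fun c => rfl
  have hχu : ∀ c, χ c ≠ 0 ↔ IsUnit (π c) := fun c => by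
    rw [hχ, Ne, residue_eq_zero_iff, mem_maximalIdeal, mem_nonunits_iff, not_not]
  have hχgen : ∀ y : κ, ∃ c s, χ s ≠ 0 ∧ χ s * y = χ c := fun y => by
    obtain ⟨b, rfl⟩ := residue_surjective y
    obtain ⟨c, s, hs, hb⟩ := hπs b
    exact ⟨c, s, (hχu s).2 hs, by rw [hχ, hχ, ← map_mul, hb]⟩
  have hχgrad : ∀ i, χ (ht.pd i F) = 0 := fun i => by
    by_contra h; exact hgrad i ((hχu _).1 h)
  obtain ⟨hkκ, μ, hμg, hμ⟩ := exists_section ht hins χ hχgen F hχgrad ((hχu _).2 hdet)
  have hμu : ∀ c, IsUnit (μ c) ↔ IsUnit (π c) := fun c => by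
    rw [← hχu, ← hμ, IsScalarTower.algebraMap_apply A k κ, Ne, map_eq_zero_iff _ (algebraMap k κ).injective]
    exact (residue_ne_zero_iff_isUnit _).symm
  -- centred coordinates
  obtain ⟨w, hw, hcent⟩ := exists_centred ht μ
  let C₁ := Localization.Away w
  have hwu : IsUnit (μ w) := by rw [hw]; exact isUnit_one
  let μ₁ : C₁ →ₐ[A] A := IsLocalization.Away.liftAlgHom w (f := μ) hwu
  have hμ₁ : ∀ c, μ₁ (algebraMap C C₁ c) = μ c := fun c => IsLocalization.Away.lift_eq (g := μ.toRingHom) w hwu c
  obtain ⟨h₁, hker₁, hpd₁⟩ := hcent C₁ μ₁ hμ₁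
  let x : Fin (n + 1) → C₁ := fun i => algebraMap C C₁ (t i - algebraMap A C (μ (t i)))
  have hx₁ : ∀ i, μ₁ (x i) = 0 := fun i => by
    rw [hμ₁, map_sub, μ.commutes]; exact sub_self _
  let F₁ := algebraMap C C₁ F
  obtain ⟨a', ha', hpol⟩ := exists_quad h₁ μ₁ hker₁ hx₁ (F := F₁) fun i => by rw [hpd₁, hμ₁, hμg]
  have hd : IsUnit (VanCyc.polarMatrix fun i j => μ₁ (a' i j)).det := by
    rw [hpol, show (Matrix.of fun i j => h₁.pd i (h₁.pd j F₁)) =
      (Matrix.of fun i j => ht.pd i (ht.pd j F)).map (algebraMap C C₁) by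
      ext i j
      show h₁.pd i (h₁.pd j (algebraMap C C₁ F)) = algebraMap C C₁ (ht.pd i (ht.pd j F))
      rw [hpd₁, hpd₁]]
    show IsUnit ((μ₁.toRingHom.mapMatrix ((algebraMap C C₁).mapMatrix _)).det)
    rw [← RingHom.map_det, ← RingHom.map_det]
    show IsUnit (μ₁ (algebraMap C C₁ _))
    rw [hμ₁, hμu]
    exact hdet
  obtain ⟨E, _, _, _, _, hE, ε, hε, y, hy, hεy, hQy⟩ := exists_frozen h₁ μ₁ hx₁ a' hd
  let a : Fin (n + 1) → Fin (n + 1) → A := fun i j => μ₁ (a' i j)
  let b : A := -μ F
  have hb : b ∈ maximalIdeal A := by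
    rw [mem_maximalIdeal, mem_nonunits_iff, IsUnit.neg_iff, hμu, hπF]
    exact not_isUnit_zero
  refine ⟨a, b, hd, hb, ?_⟩
  intro hprime
  -- the neighbourhood
  letI : Algebra C E := ((algebraMap C₁ E).comp (algebraMap C C₁)).toAlgebra
  haveI : IsScalarTower C C₁ E := IsScalarTower.of_algebraMap_eq fun _ => rfl
  haveI : IsScalarTower A C E := IsScalarTower.of_algebraMap_eq fun r => by
    rw [IsScalarTower.algebraMap_apply C C₁ E, ← IsScalarTower.algebraMap_apply A C C₁,
      ← IsScalarTower.algebraMap_apply]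
  haveI : Algebra.Etale C C₁ := Algebra.Etale.of_isLocalizationAway w
  haveI := hE
  haveI : Algebra.Etale C E := Algebra.Etale.comp C C₁ E
  let FE : E := algebraMap C E F
  have hεFE : ε FE = μ F := by
    show ε (algebraMap C E F) = _
    rw [IsScalarTower.algebraMap_apply C C₁ E, hε, hμ₁]
  let G : MvPolynomial (Fin (n + 1)) A := VanCyc.quadPoly a - MvPolynomial.C b
  let gy : MvPolynomial (Fin (n + 1)) A →+* E := (MvPolynomial.aeval (R := A) y).toRingHom
  have hgyG : gy G = FE := by
    show MvPolynomial.aeval y (VanCyc.quadPoly a - MvPolynomial.C b) = algebraMap C E F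
    rw [map_sub, quadPoly_aeval, MvPolynomial.aeval_C, hQy, map_neg, sub_neg_eq_add,
      IsScalarTower.algebraMap_apply A C₁ E, ← map_add, IsScalarTower.algebraMap_apply C C₁ E]
    have h := ha'
    rw [show μ₁ F₁ = μ F from hμ₁ F] at h
    exact congrArg _ h.symm
  let J : Ideal E := (Ideal.span {G}).map gy
  have hJ : J = Ideal.span {FE} := by
    show (Ideal.span {G}).map gy = _
    rw [Ideal.map_span, Set.image_singleton, hgyG]
  have hJC : (Ideal.span {F}).map (algebraMap C E) = J := by
    rw [hJ, Ideal.map_span, Set.image_singleton]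
  let Eb := E ⧸ J
  let εk : Eb →ₐ[A] k := Ideal.Quotient.liftₐ J ((Ideal.Quotient.mkₐ A (maximalIdeal A)).comp ε) fun z hz => by
    rw [hJ] at hz
    obtain ⟨v, rfl⟩ := Ideal.mem_span_singleton'.1 hz
    show Ideal.Quotient.mk (maximalIdeal A) (ε (v * FE)) = 0
    rw [map_mul, map_mul, hεFE, show Ideal.Quotient.mk (maximalIdeal A) (μ F) = 0 from
      Ideal.Quotient.eq_zero_iff_mem.2 (by simpa [b] using neg_mem hb), mul_zero]
  have hεk : ∀ e : E, εk (Ideal.Quotient.mk J e) = residue A (ε e) := fun e => rfl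
  let q : Ideal Eb := RingHom.ker εk.toRingHom
  haveI hqp : q.IsPrime := RingHom.ker_isPrime _
  let R' := Localization.AtPrime q
  -- the model side
  let gM : VanCyc.quadRing A a b →+* Eb := Ideal.quotientMap J gy Ideal.le_comap_map
  letI algM : Algebra (VanCyc.quadRing A a b) Eb := gM.toAlgebra
  haveI : Algebra.Etale (VanCyc.quadRing A a b) Eb := etale_quotientMap hy (Ideal.span {G})
  have hεgy : ∀ p, ε (gy p) = MvPolynomial.aeval (fun _ => (0 : A)) p := fun p => by
    show ε (MvPolynomial.aeval y p) = _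
    rw [MvPolynomial.comp_aeval_apply, show (fun i => ε (y i)) = fun _ => (0 : A) from funext hεy]
  have hM : q.comap gM = VanCyc.originQuot A a b := by
    ext z
    obtain ⟨p, rfl⟩ := Ideal.Quotient.mk_surjective z
    show residue A (ε (gy p)) = 0 ↔ _
    rw [hεgy, residue_eq_zero_iff]
    constructor
    · intro hp
      have key : ∀ p : MvPolynomial (Fin (n + 1)) A, p - MvPolynomial.C (MvPolynomial.aeval (fun _ => (0 : A)) p) ∈
          Ideal.span (Set.range (MvPolynomial.X : Fin (n + 1) → MvPolynomial (Fin (n + 1)) A)) := fun p => by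
        induction p using MvPolynomial.induction_on with
        | C r => simp
        | add q q' hq hq' => rw [map_add, map_add, add_sub_add_comm]; exact add_mem hq hq'
        | mul_X q i hq =>
          simp only [map_mul, MvPolynomial.aeval_X, mul_zero, map_zero, sub_zero]
          exact Ideal.mul_mem_left _ _ (Ideal.subset_span ⟨i, rfl⟩)
      refine Ideal.mem_map_of_mem _ (sub_add_cancel p (MvPolynomial.C (MvPolynomial.aeval (fun _ => (0 : A)) p)) ▸
        add_mem (Ideal.mem_sup_right (key p)) (Ideal.mem_sup_left (Ideal.mem_map_of_mem _ hp)))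
    · intro hp
      have hle : VanCyc.originQuot A a b ≤ RingHom.ker ((εk.toRingHom).comp gM) := by
        rw [VanCyc.originQuot, VanCyc.originIdeal, Ideal.map_le_iff_le_comap, sup_le_iff, Ideal.map_le_iff_le_comap,
          Ideal.span_le]
        refine ⟨fun r hr => ?_, ?_⟩
        · show residue A (ε (gy (MvPolynomial.C r))) = 0
          rw [hεgy, MvPolynomial.aeval_C, residue_eq_zero_iff]; exact hr
        · rintro _ ⟨i, rfl⟩
          show residue A (ε (gy (MvPolynomial.X i))) = 0
          rw [hεgy, MvPolynomial.aeval_X, map_zero]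
      have h2 : residue A (ε (gy p)) = 0 := hle hp
      rwa [hεgy, residue_eq_zero_iff] at h2
  letI algMR : Algebra (Localization.AtPrime (VanCyc.originQuot A a b)) R' :=
    (Localization.localRingHom (VanCyc.originQuot A a b) q gM hM.symm).toAlgebra
  haveI hlocM : IsLocalHom (algebraMap (Localization.AtPrime (VanCyc.originQuot A a b)) R') :=
    Localization.isLocalHom_localRingHom _ q gM hM.symm
  have hgMA : ∀ r : A, gM (algebraMap A _ r) = algebraMap A Eb r := fun r => by
    show Ideal.Quotient.mk J (gy (MvPolynomial.C r)) = Ideal.Quotient.mk J (algebraMap A E r)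
    exact congrArg _ (MvPolynomial.aeval_C y r)
  haveI : IsScalarTower (VanCyc.quadRing A a b) (Localization.AtPrime (VanCyc.originQuot A a b)) R' :=
    IsScalarTower.of_algebraMap_eq fun z => (Localization.localRingHom_to_map _ q gM hM.symm z).symm
  have hresq : ∀ e : Eb, ∀ r : A, residue A r = εk e → algebraMap A Eb r - e ∈ q := fun e r hr => by
    show εk (algebraMap A Eb r - e) = 0
    rw [map_sub, εk.commutes, ← hr]
    exact sub_self _
  have hsM : EGA4loc.IsStrictlyEssentiallyEtale (Localization.AtPrime (VanCyc.originQuot A a b)) R' :=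
    strict_of_etale (VanCyc.originQuot A a b) _ q hM fun e => by
      obtain ⟨r, hr⟩ := residue_surjective (εk e)
      refine ⟨algebraMap A _ r, 1, (Ideal.ne_top_iff_one _).1 hprime.ne_top, ?_⟩
      rw [map_one, one_mul, ← neg_sub]
      exact neg_mem (by rw [show algebraMap (VanCyc.quadRing A a b) Eb (algebraMap A _ r) = algebraMap A Eb r from hgMA r]; exact hresq e r hr)
  -- the side of the family
  let Cb := C ⧸ Ideal.span {F}
  let gC : Cb →+* Eb :=
    (Ideal.quotEquivOfEq hJC).toRingHom.comp (Ideal.quotientMap _ (algebraMap C E) Ideal.le_comap_map)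
  have hgC : gC.Etale := RingHom.Etale.stableUnderComposition _ _
    (etale_quotientMap (RingHom.etale_algebraMap.2 inferInstance) _)
    (RingHom.Etale.of_bijective (Ideal.quotEquivOfEq hJC).bijective)
  have hgCe : ∀ c, gC (Ideal.Quotient.mk _ c) = Ideal.Quotient.mk J (algebraMap C E c) := fun c => rfl
  letI algC : Algebra Cb Eb := gC.toAlgebra
  haveI : Algebra.Etale Cb Eb := hgC
  let πb : Cb →ₐ[A] B := Ideal.Quotient.liftₐ _ π fun z hz => by
    obtain ⟨v, rfl⟩ := Ideal.mem_span_singleton'.1 hz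
    rw [map_mul, hπF, mul_zero]
  let p : Ideal Cb := q.comap gC
  haveI hpp : p.IsPrime := Ideal.IsPrime.comap _
  have hp : ∀ c, Ideal.Quotient.mk _ c ∉ p ↔ IsUnit (π c) := fun c => by
    show ¬ residue A (ε (algebraMap C E c)) = 0 ↔ _
    rw [IsScalarTower.algebraMap_apply C C₁ E, hε, hμ₁, ← hμu]
    exact residue_ne_zero_iff_isUnit _
  letI algB : Algebra Cb B := πb.toRingHom.toAlgebra
  haveI : IsLocalization.AtPrime B p :=
    { map_units := fun s => by
        obtain ⟨s, hs⟩ := s
        obtain ⟨c, rfl⟩ := Ideal.Quotient.mk_surjective s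
        exact (hp c).1 hs
      surj := fun z => by
        obtain ⟨c, s, hs, hz⟩ := hπs z
        refine ⟨⟨Ideal.Quotient.mk _ c, ⟨Ideal.Quotient.mk _ s, (hp s).2 hs⟩⟩, ?_⟩
        show z * π s = π c
        rw [mul_comm, hz]
      exists_of_eq := fun {z z'} hz => by
        obtain ⟨c, rfl⟩ := Ideal.Quotient.mk_surjective z
        obtain ⟨c', rfl⟩ := Ideal.Quotient.mk_surjective z'
        obtain ⟨s, v, hs, hsv⟩ := hπker (c - c') (by rw [map_sub]; exact sub_eq_zero.2 hz)
        refine ⟨⟨Ideal.Quotient.mk _ s, (hp s).2 hs⟩, ?_⟩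
        show Ideal.Quotient.mk _ s * Ideal.Quotient.mk _ c = Ideal.Quotient.mk _ s * Ideal.Quotient.mk _ c'
        rw [← map_mul, ← map_mul, Ideal.Quotient.eq, ← mul_sub, hsv]
        exact Ideal.mul_mem_left _ _ (Ideal.mem_span_singleton_self F) }
  have huB : ∀ s : p.primeCompl, IsUnit (((algebraMap Eb R').comp gC) s) := fun s =>
    IsLocalization.map_units R' (⟨gC (s : Cb), s.2⟩ : q.primeCompl)
  let ψB : B →+* R' := IsLocalization.lift (M := p.primeCompl) huB
  have hψB : ∀ z : Cb, ψB (algebraMap Cb B z) = algebraMap Eb R' (gC z) := fun z => IsLocalization.lift_eq _ z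
  letI algBR : Algebra B R' := ψB.toAlgebra
  haveI : IsScalarTower Cb B R' := IsScalarTower.of_algebraMap_eq fun z => (hψB z).symm
  haveI hlocB : IsLocalHom (algebraMap B R') := by
    refine ⟨fun z hz => ?_⟩
    obtain ⟨c, s, rfl⟩ := IsLocalization.exists_mk'_eq p.primeCompl z
    have h1 : IsUnit (ψB (IsLocalization.mk' B c s) * ψB (algebraMap Cb B (s : Cb))) :=
      hz.mul ((IsLocalization.map_units B s).map ψB)
    rw [← map_mul, IsLocalization.mk'_spec, hψB] at h1
    have hc : c ∈ p.primeCompl := fun hc =>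
      (mem_maximalIdeal _).1 ((IsLocalization.AtPrime.to_map_mem_maximal_iff R' q _).2 hc) h1
    have hu := IsLocalization.map_units B (⟨c, hc⟩ : p.primeCompl)
    rw [← IsLocalization.mk'_spec B c s] at hu
    exact isUnit_of_mul_isUnit_left hu
  have hgCA : ∀ r : A, gC (algebraMap A Cb r) = algebraMap A Eb r := fun r => by
    show Ideal.Quotient.mk J (algebraMap C E (algebraMap A C r)) = Ideal.Quotient.mk J (algebraMap A E r)
    rw [← IsScalarTower.algebraMap_apply]
  have hsB : EGA4loc.IsStrictlyEssentiallyEtale B R' := strict_of_etale p B q rfl fun e => by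
    obtain ⟨r, hr⟩ := residue_surjective (εk e)
    refine ⟨algebraMap A Cb r, 1, (Ideal.ne_top_iff_one _).1 hpp.ne_top, ?_⟩
    rw [map_one, one_mul, ← neg_sub]
    exact neg_mem (by rw [show algebraMap Cb Eb (algebraMap A Cb r) = algebraMap A Eb r from hgCA r]; exact hresq e r hr)
  refine ⟨R', inferInstance, inferInstance, algBR, hlocB, algMR, hlocM, hsB, hsM, fun r => ?_⟩
  rw [show algebraMap A B r = algebraMap Cb B (algebraMap A Cb r) from (πb.commutes r).symm,
    IsScalarTower.algebraMap_apply A (VanCyc.quadRing A a b) (Localization.AtPrime (VanCyc.originQuot A a b)) r]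
  show ψB _ = Localization.localRingHom _ q gM hM.symm _
  rw [hψB, Localization.localRingHom_to_map, hgMA, hgCA]

end Groth.Agent.QuadFormH2
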