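import Groth.Agent.HenselLib.Pair
import Mathlib.RingTheory.AdicCompletion.Basic
import Mathlib.RingTheory.Unramified.Locus
import Mathlib.RingTheory.Etale.Basic
import Mathlib.RingTheory.Henselian
import Mathlib.Algebra.TrivSqZeroExt.Basic
import Mathlib.Algebra.DualNumber
import Mathlib.RingTheory.Kaehler.Basic

/-!
# Lifting points of étale algebras to complete rings; a criterion of unramifiedness
-/

set_option autoImplicit false
set_option linter.style.haveILetI false

universe u

open TensorProduct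

namespace Groth.Agent.QuadFormH2

/-- A point of an étale algebra with values in a quotient of a complete ring lifts. -/
theorem exists_point_lift {S C R T : Type u} [CommRing S] [CommRing C] [CommRing R] [CommRing T] [Algebra S C]
    [Algebra.Etale S C] (m : Ideal R) [IsAdicComplete m R] (θ : S →+* R) (q : R →+* T) (hq : Function.Surjective q)
    (hqker : RingHom.ker q ≤ m) (hT : IsHausdorff (m.map q) T) (χ : C →+* T)
    (hχ : χ.comp (algebraMap S C) = q.comp θ) :
    ∃ Λ : C →+* R, Λ.comp (algebraMap S C) = θ ∧ q.comp Λ = χ := by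
  letI : Algebra S R := θ.toAlgebra
  letI : Algebra S T := (q.comp θ).toAlgebra
  haveI : IsScalarTower S R (R ⧸ m) := inferInstance
  let res : T →+* R ⧸ m := (Ideal.Quotient.factor hqker).comp
    (RingHom.quotientKerEquivOfSurjective hq).symm.toRingHom
  have hres : ∀ r, res (q r) = Ideal.Quotient.mk m r := fun r => by
    show Ideal.Quotient.factor hqker ((RingHom.quotientKerEquivOfSurjective hq).symm (q r)) = _
    rw [show (RingHom.quotientKerEquivOfSurjective hq).symm (q r) = Ideal.Quotient.mk _ r from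
      (RingEquiv.symm_apply_eq _).2 (RingHom.quotientKerEquivOfSurjective_apply_mk hq r).symm]
    rfl
  let χ₁ : C →ₐ[S] R ⧸ m :=
    { res.comp χ with
      commutes' := fun s => by
        show res (χ (algebraMap S C s)) = _
        rw [show χ (algebraMap S C s) = q (θ s) from RingHom.congr_fun hχ s, hres]
        rfl }
  let σ₀ : R ⊗[S] C →ₐ[R] R ⧸ m := Algebra.TensorProduct.lift (Algebra.ofId R _) χ₁ fun _ _ => Commute.all _ _
  obtain ⟨τ, hτ⟩ := HenselLib.exists_lift_of_etale m σ₀
  let Λ : C →ₐ[S] R := (τ.restrictScalars S).comp Algebra.TensorProduct.includeRight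
  have hΛm : ∀ c, Ideal.Quotient.mk m (Λ c) = res (χ c) := fun c => by
    have := AlgHom.congr_fun hτ ((1 : R) ⊗ₜ[S] c)
    simpa [σ₀, χ₁, Λ] using this
  refine ⟨Λ.toRingHom, RingHom.ext Λ.commutes, RingHom.ext fun c => ?_⟩
  haveI := hT
  refine (IsHausdorff.eq_iff_smodEq (I := m.map q)).2 fun j => ?_
  rw [SModEq.sub_mem, smul_eq_mul, Ideal.mul_top]
  let mT := m.map q
  show q (Λ c) - χ c ∈ mT ^ j
  let π : T →+* T ⧸ mT ^ j := Ideal.Quotient.mk _
  letI : Algebra S (T ⧸ mT ^ j) := (π.comp (q.comp θ)).toAlgebra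
  let g₁ : C →ₐ[S] T ⧸ mT ^ j :=
    { π.comp (q.comp Λ.toRingHom) with
      commutes' := fun s => by
        show π (q (Λ (algebraMap S C s))) = π (q (θ s))
        rw [Λ.commutes]; rfl }
  let g₂ : C →ₐ[S] T ⧸ mT ^ j :=
    { π.comp χ with
      commutes' := fun s => by
        show π (χ (algebraMap S C s)) = π (q (θ s))
        rw [show χ (algebraMap S C s) = q (θ s) from RingHom.congr_fun hχ s] }
  have hnil : IsNilpotent (mT.map π) := ⟨j, (Ideal.map_pow π mT j).symm.trans (Ideal.map_quotient_self _)⟩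
  have h12 : g₁ = g₂ := Algebra.FormallyUnramified.ext (mT.map π) hnil fun c => by
    rw [Ideal.Quotient.eq]
    show π (q (Λ c)) - π (χ c) ∈ mT.map π
    rw [← map_sub]
    refine Ideal.mem_map_of_mem π ?_
    obtain ⟨r, hr⟩ := hq (χ c)
    rw [← hr, ← map_sub]
    refine Ideal.mem_map_of_mem q ?_
    rw [← Ideal.Quotient.eq, hΛm, ← hr, hres]
  exact Ideal.Quotient.eq.1 (AlgHom.congr_fun h12 c)

/-- Absence of derivations into an extension of the residue field gives unramifiedness. -/
theorem isUnramifiedAt_of_derivation {S B L : Type u} [CommRing S] [CommRing B] [Algebra S B]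
    [Algebra.EssFiniteType S B] (P : Ideal B) [P.IsMaximal] [Field L] [Algebra B L] [Algebra S L] [IsScalarTower S B L]
    (hL : ∀ b, algebraMap B L b = 0 ↔ b ∈ P) (hD : ∀ D : Derivation S B L, D = 0) :
    Algebra.IsUnramifiedAt S P := by
  letI : Field (B ⧸ P) := Ideal.Quotient.field P
  let ι : (B ⧸ P) →+* L := Ideal.Quotient.lift P (algebraMap B L) fun b hb => (hL b).2 hb
  have hlin : ∀ f : Ω[B⁄S] →ₗ[B] L, f = 0 := fun f => by
    rw [← (KaehlerDifferential.linearMapEquivDerivation S B).symm_apply_apply f, hD (KaehlerDifferential.linearMapEquivDerivation S B f), map_zero]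
  have htop : P • (⊤ : Submodule B Ω[B⁄S]) = ⊤ := by
    by_contra hne
    let M := Ω[B⁄S] ⧸ P • (⊤ : Submodule B Ω[B⁄S])
    obtain ⟨x, hx⟩ : ∃ x : Ω[B⁄S], x ∉ P • (⊤ : Submodule B Ω[B⁄S]) := by
      by_contra h
      push_neg at h
      exact hne (eq_top_iff.2 fun y _ => h y)
    let b := Module.Free.chooseBasis (B ⧸ P) M
    have hx0 : (Submodule.Quotient.mk x : M) ≠ 0 := fun h => hx ((Submodule.Quotient.mk_eq_zero _).1 h)
    obtain ⟨i, hi⟩ : ∃ i, b.repr (Submodule.Quotient.mk x) i ≠ 0 := by
      by_contra h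
      push_neg at h
      exact hx0 (b.repr.map_eq_zero_iff.1 (Finsupp.ext h))
    let lι : (B ⧸ P) →ₗ[B] L :=
      { toFun := ι
        map_add' := map_add ι
        map_smul' := fun r z => by
          rw [Algebra.smul_def, map_mul, RingHom.id_apply, Algebra.smul_def]
          rfl }
    have h0 := LinearMap.congr_fun (hlin (lι.comp (((b.coord i).restrictScalars B).comp (Submodule.mkQ _)))) x
    exact hi ((map_eq_zero_iff ι ι.injective).1 h0)
  obtain ⟨r, hr, hr0⟩ := Submodule.exists_sub_one_mem_and_smul_eq_zero_of_fg_of_le_smul P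
    (⊤ : Submodule B Ω[B⁄S]) Module.Finite.fg_top htop.ge
  have hrP : r ∉ P := fun h => Ideal.IsPrime.ne_top ‹P.IsMaximal›.isPrime
    ((Ideal.eq_top_iff_one P).2 (by simpa using sub_mem h hr))
  have hP : (⟨P, inferInstance⟩ : PrimeSpectrum B) ∈ Algebra.unramifiedLocus S B := by
    rw [Algebra.unramifiedLocus_eq_compl_support, Set.mem_compl_iff, Module.notMem_support_iff']
    exact fun z => ⟨r, hrP, hr0 z trivial⟩
  exact hP

end Groth.Agent.QuadFormH2
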