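import Groth.Agent.QuadFormH2.Geom
import Groth.Agent.QuadFormH2.Point
import Groth.Agent.EGA43.HenselCompare.Model
import Mathlib.LinearAlgebra.Basis.VectorSpace
import Mathlib.LinearAlgebra.Determinant
import Mathlib.RingTheory.FinitePresentation

/-!
# Coordinates at a geometric point with hypersurface completion
-/

set_option autoImplicit false
set_option linter.style.haveILetI false

universe u

open IsLocalRing TensorProduct MvPowerSeries

namespace Groth.Agent.QuadFormH2

open Et18 EGA43.HenselCompare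

variable {L : Type u} [Field L] {N : ℕ}

/-- Linear part of a power series. -/
noncomputable def lin (y : MvPowerSeries (Fin N) L) : Fin N → L := fun i => coeff (Finsupp.single i 1) y

theorem lin_eq_of_sub_mem {f : MvPowerSeries (Fin N) L} (hf : VanCyc.NoLowTerms f) {y y' : MvPowerSeries (Fin N) L}
    (h : y - y' ∈ Ideal.span {f}) : lin y = lin y' := by
  obtain ⟨w, hw⟩ := Ideal.mem_span_singleton'.1 h
  funext i
  have := congrArg (coeff (Finsupp.single i 1)) hw
  rw [coeff_single_mul hf.1, hf.2, mul_zero, map_sub, eq_comm, sub_eq_zero] at this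
  exact this

theorem lin_eq_zero_of_mem_sq {y : MvPowerSeries (Fin N) L} (h : y ∈ maximalIdeal (MvPowerSeries (Fin N) L) ^ 2) :
    lin y = 0 :=
  funext fun i => ordGE_of_mem_pow h _ (by rw [Finsupp.degree_single]; norm_num)

theorem span_X_le_of_lin {θ : Fin N → MvPowerSeries (Fin N) L}
    (hJ : IsUnit (Matrix.of fun i j => lin (θ i) j).det) :
    maximalIdeal (MvPowerSeries (Fin N) L) ≤
      Ideal.span (Set.range fun i => θ i - C (constantCoeff (θ i))) := by
  have hX : maximalIdeal (MvPowerSeries (Fin N) L) ≤ Ideal.span (Set.range (X : Fin N → MvPowerSeries (Fin N) L)) :=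
    fun p hp => by
      rw [← sum_X_mul_divVar p (mem_maximalIdeal_iff.1 hp)]
      exact Ideal.sum_mem _ fun i _ => Ideal.mul_mem_right _ _ (Ideal.subset_span ⟨i, rfl⟩)
  refine hX.trans (span_range_le_of_matrix (H := fun i => θ i - C (constantCoeff (θ i)))
    (Matrix.of fun t s => divVar s (θ t - C (constantCoeff (θ t)))) (fun t => ?_) ?_)
  · conv_lhs => rw [← sum_X_mul_divVar (θ t - C (constantCoeff (θ t))) (by simp)]
    simp [mul_comm]
  · convert hJ using 2
    ext t s
    simp [constantCoeff_divVar, lin, coeff_C]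

variable {A : Type u} [CommRing A] [Algebra A L] {B₀ : Type u} [CommRing B₀] [Algebra A B₀]

/-- Coordinates adapted to a geometric point with hypersurface completion, and unramifiedness. -/
theorem exists_coords [Algebra.FiniteType A B₀] (P : Ideal B₀) [P.IsMaximal] {f : MvPowerSeries (Fin N) L}
    (hf : VanCyc.NoLowTerms f) (ψ : L ⊗[A] B₀ →ₐ[L] MvPowerSeries (Fin N) L ⧸ Ideal.span {f})
    (hker : ∀ j x, ψ x ∈ mT f ^ j ↔ x ∈ ((mT f).comap ψ.toRingHom) ^ j)
    (hdense : ∀ j y, ∃ x, y - ψ x ∈ mT f ^ j) (hP : ∀ b, ψ ((1 : L) ⊗ₜ[A] b) ∈ mT f ↔ b ∈ P) :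
    ∃ (t : Fin N → B₀) (θ : Fin N → MvPowerSeries (Fin N) L),
      (∀ i, Ideal.Quotient.mk _ (θ i) = ψ ((1 : L) ⊗ₜ[A] t i)) ∧ IsUnit (Matrix.of fun i j => lin (θ i) j).det ∧
      (letI := (MvPolynomial.aeval (R := A) t).toRingHom.toAlgebra
       Algebra.IsUnramifiedAt (MvPolynomial (Fin N) A) P) := by
  classical
  choose lift hlift using fun b : B₀ => Ideal.Quotient.mk_surjective (ψ ((1 : L) ⊗ₜ[A] b))
  let V : Submodule L (Fin N → L) := Submodule.span L (Set.range fun b => lin (lift b))
  have hV : ∀ (x : L ⊗[A] B₀) (q : MvPowerSeries (Fin N) L), Ideal.Quotient.mk _ q = ψ x → lin q ∈ V := by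
    intro x
    induction x using TensorProduct.induction_on with
    | zero =>
      intro q hq
      rw [map_zero] at hq
      rw [lin_eq_of_sub_mem hf (y' := 0) (by simpa using Ideal.Quotient.eq_zero_iff_mem.1 hq)]
      exact V.zero_mem
    | tmul l b =>
      intro q hq
      have e : lin q = l • lin (lift b) := by
        rw [lin_eq_of_sub_mem hf (y' := C l * lift b) (Ideal.Quotient.eq.1 (by
          rw [hq, map_mul, hlift, show (Ideal.Quotient.mk _) (C l) = algebraMap L _ l from rfl, ← ψ.commutes,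
            ← map_mul, Algebra.TensorProduct.algebraMap_apply, Algebra.TensorProduct.tmul_mul_tmul]
          simp))]
        funext i
        simp [lin, coeff_C_mul]
      rw [e]
      exact V.smul_mem _ (Submodule.subset_span ⟨b, rfl⟩)
    | add x y hx hy =>
      intro q hq
      obtain ⟨qx, hqx⟩ := Ideal.Quotient.mk_surjective (ψ x)
      have h2 := hy (q - qx) (by rw [map_sub, hq, hqx, map_add]; ring)
      have := V.add_mem (hx qx hqx) h2
      convert this using 1
      funext i
      simp [lin]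
  have hVtop : ⊤ ≤ V := by
    intro v _
    let q : MvPowerSeries (Fin N) L := ∑ i, C (v i) * X i
    obtain ⟨x, hx⟩ := hdense 2 (Ideal.Quotient.mk _ q)
    rw [← Ideal.map_pow] at hx
    obtain ⟨r, hr, hre⟩ := (Ideal.mem_map_iff_of_surjective _ Ideal.Quotient.mk_surjective).1 hx
    have h1 := hV x (q - r) (by rw [map_sub, hre]; ring)
    have e : lin (q - r) = v := by
      funext i
      have := congrFun (lin_eq_zero_of_mem_sq hr) i
      simp only [lin, Pi.zero_apply] at this ⊢
      simp [q, this, coeff_X, Finsupp.single_left_inj one_ne_zero]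
    rwa [e] at h1
  let bas := Module.Basis.ofSpan hVtop
  haveI := (Module.Basis.finite_index_of_rank_lt_aleph0 bas (by simp))
  letI := Fintype.ofFinite ((linearIndepOn_empty L id).extend (Set.empty_subset (Set.range fun b => lin (lift b))))
  let bN : Module.Basis (Fin N) L (Fin N → L) := bas.reindex (Fintype.equivFinOfCardEq (by
    rw [← Module.finrank_eq_card_basis bas, Module.finrank_fin_fun]))
  have hbN : ∀ i, ∃ b, lin (lift b) = bN i := fun i => by
    obtain ⟨b, hb⟩ := Module.Basis.ofSpan_subset hVtop (Set.mem_range_self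
      ((Fintype.equivFinOfCardEq (by rw [← Module.finrank_eq_card_basis bas, Module.finrank_fin_fun])).symm i))
    exact ⟨b, hb.trans (by rw [Module.Basis.reindex_apply])⟩
  choose t ht using hbN
  let θ : Fin N → MvPowerSeries (Fin N) L := fun i => lift (t i)
  let J : Matrix (Fin N) (Fin N) L := Matrix.of fun i j => lin (θ i) j
  have hJ : IsUnit J.det := by
    rw [← Matrix.isUnit_iff_isUnit_det, ← Matrix.linearIndependent_rows_iff_isUnit]
    convert bN.linearIndependent using 1
    funext i
    exact ht i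
  refine ⟨t, θ, fun i => hlift (t i), hJ, ?_⟩
  -- derivations into `L` at the point vanish
  letI : Algebra (MvPolynomial (Fin N) A) B₀ := (MvPolynomial.aeval (R := A) t).toRingHom.toAlgebra
  haveI : IsScalarTower A (MvPolynomial (Fin N) A) B₀ :=
    IsScalarTower.of_algebraMap_eq fun a => ((MvPolynomial.aeval (R := A) t).commutes a).symm
  haveI : Algebra.FiniteType (MvPolynomial (Fin N) A) B₀ :=
    Algebra.FiniteType.of_restrictScalars_finiteType A (MvPolynomial (Fin N) A) B₀
  let res : (MvPowerSeries (Fin N) L ⧸ Ideal.span {f}) →ₐ[L] L := Ideal.Quotient.liftₐ _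
    { constantCoeff (σ := Fin N) (R := L) with commutes' := fun l => by simp [MvPowerSeries.algebraMap_apply] }
    fun y hy => by
      obtain ⟨w, rfl⟩ := Ideal.mem_span_singleton'.1 hy
      show constantCoeff (w * f) = 0
      rw [map_mul, hf.1, mul_zero]
  have hres : ∀ y, res (Ideal.Quotient.mk _ y) = constantCoeff y := fun y => rfl
  have hresm : ∀ z, res z = 0 ↔ z ∈ mT f := fun z => by
    obtain ⟨y, rfl⟩ := Ideal.Quotient.mk_surjective z
    rw [hres, Ideal.mem_map_iff_of_surjective _ Ideal.Quotient.mk_surjective]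
    refine ⟨fun h => ⟨y, mem_maximalIdeal_iff.2 h, rfl⟩, fun ⟨y', hy', he⟩ => ?_⟩
    obtain ⟨w, hw⟩ := Ideal.mem_span_singleton'.1 (Ideal.Quotient.eq.1 he.symm)
    have := congrArg constantCoeff hw
    rw [map_mul, hf.1, mul_zero, map_sub, mem_maximalIdeal_iff.1 hy', sub_zero] at this
    exact this.symm
  let χ : B₀ →ₐ[A] L := ((res.comp ψ).restrictScalars A).comp Algebra.TensorProduct.includeRight
  have hχ : ∀ b, χ b = res (ψ ((1 : L) ⊗ₜ[A] b)) := fun b => rfl
  letI : Algebra B₀ L := χ.toRingHom.toAlgebra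
  letI : Algebra (MvPolynomial (Fin N) A) L := ((algebraMap B₀ L).comp (algebraMap _ B₀)).toAlgebra
  haveI : IsScalarTower (MvPolynomial (Fin N) A) B₀ L := IsScalarTower.of_algebraMap_eq fun _ => rfl
  refine isUnramifiedAt_of_derivation (L := L) P (fun b => ?_) fun D => ?_
  · show χ b = 0 ↔ _
    rw [hχ, hresm, hP]
  let δ₀ : B₀ →ₐ[A] TrivSqZeroExt L L :=
    { toFun := fun b => TrivSqZeroExt.inl (χ b) + TrivSqZeroExt.inr (D b)
      map_one' := by ext <;> simp
      map_zero' := by ext <;> simp
      map_add' := fun x y => by ext <;> simp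
      map_mul' := fun x y => by
        ext
        · simp
        · simp only [TrivSqZeroExt.snd_add, TrivSqZeroExt.snd_inl, TrivSqZeroExt.snd_inr, zero_add,
            TrivSqZeroExt.snd_mul, TrivSqZeroExt.fst_add, TrivSqZeroExt.fst_inl, TrivSqZeroExt.fst_inr, add_zero,
            Derivation.leibniz, smul_eq_mul, MulOpposite.smul_eq_mul_unop, MulOpposite.unop_op]
          show χ x * D y + χ y * D x = χ x * D y + D x * χ y
          ring
      commutes' := fun a => by
        ext
        · simp [TrivSqZeroExt.algebraMap_eq_inl']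
        · have hD0 : D (algebraMap A B₀ a) = 0 := by
            rw [IsScalarTower.algebraMap_apply A (MvPolynomial (Fin N) A) B₀, Derivation.map_algebraMap]
          simp [TrivSqZeroExt.algebraMap_eq_inl', hD0] }
  let δ : L ⊗[A] B₀ →ₐ[L] TrivSqZeroExt L L :=
    Algebra.TensorProduct.lift (Algebra.ofId L _) δ₀ fun _ _ => Commute.all _ _
  have hδ : ∀ b, δ ((1 : L) ⊗ₜ[A] b) = TrivSqZeroExt.inl (χ b) + TrivSqZeroExt.inr (D b) := fun b => by
    simp [δ, δ₀]
  have hfst : ∀ x, (δ x).fst = res (ψ x) := fun x => by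
    have : (TrivSqZeroExt.fstHom L L L).comp δ = res.comp ψ := Algebra.TensorProduct.ext
      (AlgHom.ext fun l => (AlgHom.commutes _ l).trans (AlgHom.commutes _ l).symm)
      (AlgHom.ext fun b => by
        show (δ ((1 : L) ⊗ₜ[A] b)).fst = res (ψ ((1 : L) ⊗ₜ[A] b))
        rw [hδ]; simp [hχ])
    exact AlgHom.congr_fun this x
  let M0 := (mT f).comap ψ.toRingHom
  have hM1 : ∀ x ∈ M0, (δ x).fst = 0 := fun x hx => by rw [hfst, hresm]; exact hx
  have hM2 : ∀ x ∈ M0 ^ 2, δ x = 0 := fun x hx => by
    rw [pow_two] at hx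
    refine Submodule.mul_induction_on hx (fun a ha b hb => ?_) fun a b ha hb => by rw [map_add, ha, hb, add_zero]
    rw [map_mul]
    ext <;> simp [hM1 a ha, hM1 b hb]
  have hDt : ∀ i, D (t i) = 0 := fun i => by
    rw [show t i = algebraMap (MvPolynomial (Fin N) A) B₀ (MvPolynomial.X i) from (MvPolynomial.aeval_X t i).symm,
      Derivation.map_algebraMap]
  refine Derivation.ext fun b => ?_
  obtain ⟨a, ha⟩ := (Matrix.mulVec_surjective_iff_isUnit.2 ((Matrix.isUnit_iff_isUnit_det _).2
    (show IsUnit J.transpose.det by rw [Matrix.det_transpose]; exact hJ))) (lin (lift b))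
  let y : L ⊗[A] B₀ := (1 : L) ⊗ₜ[A] b - algebraMap L _ (χ b) -
    ∑ i, algebraMap L _ (a i) * ((1 : L) ⊗ₜ[A] t i - algebraMap L _ (χ (t i)))
  let q : MvPowerSeries (Fin N) L := lift b - C (χ b) - ∑ i, C (a i) * (θ i - C (χ (t i)))
  have hq : Ideal.Quotient.mk _ q = ψ y := by
    simp only [q, y, θ, map_sub, map_sum, map_mul, hlift, AlgHom.commutes]
    rfl
  have hq2 : q ∈ maximalIdeal (MvPowerSeries (Fin N) L) ^ 2 := by
    refine mem_pow_of_ordGE fun d hd => ?_
    have hcc : ∀ b, constantCoeff (lift b) = χ b := fun b => by rw [hχ, ← hlift, hres]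
    have h0 : constantCoeff q = 0 := by simp [q, θ, hcc]
    rcases Nat.lt_succ_iff.1 hd |>.eq_or_lt with h1 | h1
    · obtain ⟨j, rfl⟩ : d ∈ Set.range fun a => Finsupp.single a 1 := by rw [Finsupp.range_single_one]; exact h1
      have hj := congrFun ha j
      simp only [Matrix.mulVec, dotProduct, Matrix.transpose_apply, J, Matrix.of_apply] at hj
      simp only [q, map_sub, map_sum, coeff_C_mul, coeff_C, Finsupp.single_eq_zero, one_ne_zero, if_false, sub_zero]
      rw [sub_eq_zero]
      show lin (lift b) j = _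
      rw [← hj]
      exact Finset.sum_congr rfl fun i _ => mul_comm _ _
    · obtain rfl : d = 0 := (Finsupp.degree_eq_zero_iff d).1 (by omega)
      rw [coeff_zero_eq_constantCoeff_apply, h0]
  have hy : δ y = 0 := hM2 y ((hker 2 y).1 (hq ▸ by rw [← Ideal.map_pow]; exact Ideal.mem_map_of_mem _ hq2))
  have h2 := congrArg TrivSqZeroExt.snd hy
  simp only [y, map_sub, map_sum, map_mul, hδ, AlgHom.commutes, TrivSqZeroExt.algebraMap_eq_inl',
    TrivSqZeroExt.snd_sub, TrivSqZeroExt.snd_sum, TrivSqZeroExt.snd_add, TrivSqZeroExt.snd_mul,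
    TrivSqZeroExt.snd_inl, TrivSqZeroExt.snd_inr, TrivSqZeroExt.fst_sub, TrivSqZeroExt.fst_add,
    TrivSqZeroExt.fst_inl, TrivSqZeroExt.fst_inr, hDt, smul_zero, zero_add, sub_zero, add_zero,
    Finset.sum_const_zero, TrivSqZeroExt.snd_zero, MulOpposite.op_sub, sub_self] at h2
  simpa using h2

end Groth.Agent.QuadFormH2
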