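import Groth.Prelude.Def_QuadSing
import Mathlib.RingTheory.AdicCompletion.LocalRing
import Mathlib.RingTheory.AdicCompletion.Noetherian
import Mathlib.RingTheory.MvPowerSeries.Inverse
import Mathlib.RingTheory.FiniteType
import Mathlib.RingTheory.FiniteStability
import Mathlib.FieldTheory.IsAlgClosed.Basic
import Mathlib.Algebra.CharP.Defs
import Mathlib.RingTheory.FinitePresentation
import Mathlib.RingTheory.Localization.AtPrime.Basic

/-!
# The geometric point of a quadratic singularity of the closed fibre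
-/

set_option autoImplicit false
set_option linter.style.haveILetI false

universe u

open IsLocalRing TensorProduct

namespace Groth.Agent.QuadFormH2

/-- The maximal ideal of the model `L[[u]]/(f)`. -/
noncomputable abbrev mT {L : Type u} [Field L] {N : ℕ} (f : MvPowerSeries (Fin N) L) :
    Ideal (MvPowerSeries (Fin N) L ⧸ Ideal.span {f}) :=
  (maximalIdeal (MvPowerSeries (Fin N) L)).map (Ideal.Quotient.mk _)

/-- The completion of `O` is the quotient of power series by one series satisfying `R`. -/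
def HasModel (L : Type u) [Field L] (O : Type u) [CommRing O] [IsLocalRing O] [Algebra L O] {N : ℕ}
    (R : MvPowerSeries (Fin N) L → Prop) : Prop :=
  ∃ f : MvPowerSeries (Fin N) L, R f ∧
    Nonempty (AdicCompletion (maximalIdeal O) O ≃ₐ[L] (MvPowerSeries (Fin N) L ⧸ Ideal.span {f}))

theorem map_maximal_equiv {R S : Type u} [CommRing R] [CommRing S] [IsLocalRing R] [IsLocalRing S] (e : R ≃+* S) :
    (maximalIdeal R).map e = maximalIdeal S :=
  haveI := Ideal.map_isMaximal_of_equiv e (p := maximalIdeal R)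
  eq_maximalIdeal this

theorem equiv_mem_pow {R S : Type u} [CommRing R] [CommRing S] [IsLocalRing R] [IsLocalRing S] (e : R ≃+* S)
    (j : ℕ) (x : R) : e x ∈ maximalIdeal S ^ j ↔ x ∈ maximalIdeal R ^ j := by
  rw [← map_maximal_equiv e, ← Ideal.map_pow, Ideal.mem_map_iff_of_surjective _ e.surjective]
  exact ⟨fun ⟨v, hv, hve⟩ => e.injective hve ▸ hv, fun hv => ⟨x, hv, rfl⟩⟩

theorem completion_iso_facts {L : Type u} [CommRing L] {R : Type u} [CommRing R] [IsLocalRing R] [IsNoetherianRing R]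
    [Algebra L R] {T : Type u} [CommRing T] [IsLocalRing T] [Algebra L T]
    (e₀ : AdicCompletion (maximalIdeal R) R ≃ₐ[L] T) :
    ∃ φ : R →ₐ[L] T, (∀ j x, φ x ∈ maximalIdeal T ^ j ↔ x ∈ maximalIdeal R ^ j) ∧
      ∀ j y, ∃ r, y - φ r ∈ maximalIdeal T ^ j := by
  let e := e₀.toRingEquiv
  have hC : maximalIdeal (AdicCompletion (maximalIdeal R) R) =
      (maximalIdeal R).map (algebraMap R (AdicCompletion (maximalIdeal R) R)) := AdicCompletion.maximalIdeal_eq_map
  have hker : ∀ j x, AdicCompletion.evalₐ (maximalIdeal R) j x = 0 ↔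
      x ∈ maximalIdeal (AdicCompletion (maximalIdeal R) R) ^ j := by
    intro j x
    have h1 : AdicCompletion.evalₐ (maximalIdeal R) j x = 0 ↔ AdicCompletion.eval (maximalIdeal R) R j x = 0 := by
      constructor <;> intro h
      · rw [← AdicCompletion.factor_evalₐ_eq_eval (maximalIdeal R) x (by simp), h, map_zero]
      · rw [← AdicCompletion.factor_eval_eq_evalₐ (maximalIdeal R) x (by simp), h, map_zero]
    refine h1.trans ?_
    rw [hC, ← Ideal.map_pow, ← LinearMap.mem_ker,
      ← AdicCompletion.pow_smul_top_eq_ker_eval (maximalIdeal R).fg_of_isNoetherianRing, Ideal.smul_top_eq_map]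
    rfl
  have he := equiv_mem_pow e
  refine ⟨e₀.toAlgHom.comp (IsScalarTower.toAlgHom L R _), fun j x => ?_, fun j y => ?_⟩
  · show e (algebraMap R _ x) ∈ _ ↔ _
    rw [he, ← hker, AlgHom.commutes, Ideal.Quotient.algebraMap_eq, Ideal.Quotient.eq_zero_iff_mem]
  · obtain ⟨z, rfl⟩ := e.surjective y
    obtain ⟨r, hr⟩ := Ideal.Quotient.mk_surjective (AdicCompletion.evalₐ (maximalIdeal R) j z)
    refine ⟨r, ?_⟩
    show e z - e (algebraMap R _ r) ∈ _
    rw [← map_sub, he, ← hker, map_sub, ← hr, AlgHom.commutes, Ideal.Quotient.algebraMap_eq, sub_self]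

variable (A : Type u) [CommRing A] [IsLocalRing A] (B₀ : Type u) [CommRing B₀] [Algebra A B₀]
  [Algebra.FiniteType A B₀] (P : Ideal B₀) [P.IsMaximal]

/-- A geometric point of the closed fibre at a hypersurface singularity, with its truncations. -/
theorem exists_geom_point_of (hP : (maximalIdeal A).map (algebraMap A B₀) ≤ P)
    (hPi : ∀ y : B₀, ∃ (e : ℕ) (c : A), y ^ ringExpChar (ResidueField A) ^ e - algebraMap A B₀ c ∈ P)
    (n : ℕ) (R : MvPowerSeries (Fin (n + 1)) (AlgebraicClosure (ResidueField A)) → Prop)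
    (hR : ∀ f, R f → VanCyc.NoLowTerms f)
    (hq : letI := (VanCyc.fibHom A (Localization.AtPrime P)).toAlgebra
      ∀ (M : Ideal (AlgebraicClosure (ResidueField A) ⊗[ResidueField A] VanCyc.fibQuot A (Localization.AtPrime P)))
        [M.IsMaximal], HasModel (AlgebraicClosure (ResidueField A)) (Localization.AtPrime M) R) :
    ∃ f : MvPowerSeries (Fin (n + 1)) (AlgebraicClosure (ResidueField A)), R f ∧
      ∃ ψ : AlgebraicClosure (ResidueField A) ⊗[A] B₀ →ₐ[AlgebraicClosure (ResidueField A)]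
          MvPowerSeries (Fin (n + 1)) (AlgebraicClosure (ResidueField A)) ⧸ Ideal.span {f},
        (∀ j x, ψ x ∈ mT f ^ j ↔ x ∈ ((mT f).comap ψ.toRingHom) ^ j) ∧
        (∀ j y, ∃ x, y - ψ x ∈ mT f ^ j) ∧ ∀ b, ψ ((1 : AlgebraicClosure (ResidueField A)) ⊗ₜ[A] b) ∈ mT f ↔ b ∈ P := by
  classical
  let k := ResidueField A
  let L := AlgebraicClosure k
  let B := Localization.AtPrime P
  let O := VanCyc.fibQuot A B
  letI : Algebra k O := (VanCyc.fibHom A B).toAlgebra
  haveI : IsScalarTower A k O := IsScalarTower.of_algebraMap_eq fun a => rfl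
  -- the point with values in `L`
  let kP : k →+* B₀ ⧸ P := Ideal.Quotient.lift (maximalIdeal A) ((Ideal.Quotient.mk P).comp (algebraMap A B₀))
    fun a ha => Ideal.Quotient.eq_zero_iff_mem.2 (hP (Ideal.mem_map_of_mem _ ha))
  letI : Algebra k (B₀ ⧸ P) := kP.toAlgebra
  haveI : IsScalarTower A k (B₀ ⧸ P) := IsScalarTower.of_algebraMap_eq fun a => rfl
  letI : Field (B₀ ⧸ P) := Ideal.Quotient.field P
  haveI : Algebra.IsAlgebraic k (B₀ ⧸ P) := ⟨fun y => by
    obtain ⟨y, rfl⟩ := Ideal.Quotient.mk_surjective y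
    obtain ⟨e, c, hc⟩ := hPi y
    have hq0 : 0 < ringExpChar k ^ e := pow_pos (by rw [ringExpChar]; exact lt_max_of_lt_right one_pos) e
    refine ⟨Polynomial.X ^ (ringExpChar k ^ e) - Polynomial.C (residue A c),
      (Polynomial.monic_X_pow_sub_C _ hq0.ne').ne_zero, ?_⟩
    rw [map_sub, map_pow, Polynomial.aeval_X, Polynomial.aeval_C, ← map_pow, sub_eq_zero]
    exact Ideal.Quotient.eq.2 hc⟩
  let χ₀ : B₀ →ₐ[A] L := ((IsAlgClosed.lift : (B₀ ⧸ P) →ₐ[k] L).restrictScalars A).comp (Ideal.Quotient.mkₐ A P)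
  have hχ₀ : ∀ b, χ₀ b = 0 ↔ b ∈ P := fun b => by
    show (IsAlgClosed.lift : (B₀ ⧸ P) →ₐ[k] L).toRingHom (Ideal.Quotient.mk P b) = 0 ↔ _
    rw [map_eq_zero_iff _ (RingHom.injective (IsAlgClosed.lift : (B₀ ⧸ P) →ₐ[k] L).toRingHom),
      Ideal.Quotient.eq_zero_iff_mem]
  let χW : L ⊗[A] B₀ →ₐ[L] L := Algebra.TensorProduct.lift (AlgHom.id L L) χ₀ fun _ _ => Commute.all _ _
  have hχW1 : ∀ b, χW ((1 : L) ⊗ₜ[A] b) = χ₀ b := fun b => by simp [χW]
  let M0 : Ideal (L ⊗[A] B₀) := RingHom.ker χW.toRingHom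
  haveI hM0 : M0.IsMaximal := RingHom.ker_isMaximal_of_surjective _ fun l => ⟨algebraMap L _ l, χW.commutes l⟩
  let WM := Localization.AtPrime M0
  have huP : ∀ s : P.primeCompl, IsUnit (χ₀ s) := fun s => isUnit_iff_ne_zero.2 fun h => s.2 ((hχ₀ _).1 h)
  let χB : B →+* L := IsLocalization.lift (M := P.primeCompl) (g := χ₀.toRingHom) huP
  have hχB : ∀ b, χB (algebraMap B₀ B b) = χ₀ b := fun b => IsLocalization.lift_eq _ b
  have hmA : ∀ a ∈ maximalIdeal A, algebraMap A L a = 0 := fun a ha => by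
    rw [IsScalarTower.algebraMap_apply A k L, show algebraMap A k a = 0 from Ideal.Quotient.eq_zero_iff_mem.2 ha, map_zero]
  have hχBm : ∀ x ∈ (maximalIdeal A).map (algebraMap A B), χB x = 0 := fun x hx => by
    refine (Ideal.map_le_iff_le_comap.2 fun a ha => ?_ : (maximalIdeal A).map (algebraMap A B) ≤ RingHom.ker χB) hx
    rw [Ideal.mem_comap, RingHom.mem_ker, IsScalarTower.algebraMap_apply A B₀ B, hχB, χ₀.commutes, hmA a ha]
  let χO : O →ₐ[k] L :=
    { Ideal.Quotient.lift _ χB hχBm with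
      commutes' := fun c => by
        obtain ⟨a, rfl⟩ := residue_surjective c
        show χB (algebraMap A B a) = algebraMap A L a
        rw [IsScalarTower.algebraMap_apply A B₀ B, hχB, χ₀.commutes] }
  have hχO : ∀ x : B, χO (Ideal.Quotient.mk _ x) = χB x := fun x => rfl
  let χ' : L ⊗[k] O →ₐ[L] L := Algebra.TensorProduct.lift (AlgHom.id L L) χO fun _ _ => Commute.all _ _
  let M : Ideal (L ⊗[k] O) := RingHom.ker χ'.toRingHom
  haveI hM : M.IsMaximal := RingHom.ker_isMaximal_of_surjective _ fun l => ⟨algebraMap L _ l, χ'.commutes l⟩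
  -- the two comparison maps
  let g₀ : B₀ →ₐ[A] L ⊗[k] O :=
    { (Algebra.TensorProduct.includeRight (R := k) (A := L) (B := O)).toRingHom.comp
        ((Ideal.Quotient.mk _).comp (algebraMap B₀ B)) with
      commutes' := fun a => by
        show (1 : L) ⊗ₜ[k] Ideal.Quotient.mk _ (algebraMap B₀ B (algebraMap A B₀ a)) = _
        rw [← IsScalarTower.algebraMap_apply A B₀ B,
          show Ideal.Quotient.mk _ (algebraMap A B a) = algebraMap k O (residue A a) from rfl,
          Algebra.algebraMap_eq_smul_one (residue A a) (A := O), ← smul_tmul, ← Algebra.algebraMap_eq_smul_one]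
        rfl }
  let g : L ⊗[A] B₀ →ₐ[L] L ⊗[k] O :=
    Algebra.TensorProduct.lift (Algebra.ofId L _) g₀ fun _ _ => Commute.all _ _
  have hg1 : ∀ b, g ((1 : L) ⊗ₜ[A] b) = (1 : L) ⊗ₜ[k] Ideal.Quotient.mk _ (algebraMap B₀ B b) := fun b => by
    simp [g, g₀]
  let χloc : WM →ₐ[L] L := IsLocalization.liftAlgHom (M := M0.primeCompl) (f := χW)
    fun s => isUnit_iff_ne_zero.2 fun h => s.2 h
  have hχloc : ∀ x, χloc (algebraMap _ WM x) = χW x := fun x => IsLocalization.lift_eq _ x
  have hχlocker : RingHom.ker χloc.toRingHom = maximalIdeal WM := eq_maximalIdeal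
    (RingHom.ker_isMaximal_of_surjective _ fun l => ⟨algebraMap L _ l, χloc.commutes l⟩)
  let hW₀ : B₀ →+* WM := (algebraMap (L ⊗[A] B₀) WM).comp
    (Algebra.TensorProduct.includeRight (R := A) (A := L) (B := B₀)).toRingHom
  have hW₀e : ∀ b, hW₀ b = algebraMap (L ⊗[A] B₀) WM ((1 : L) ⊗ₜ[A] b) := fun b => rfl
  have huW : ∀ s : P.primeCompl, IsUnit (hW₀ s) := fun s => IsLocalization.map_units WM
    (⟨(1 : L) ⊗ₜ[A] (s : B₀), fun h => s.2 ((hχ₀ _).1 (by rw [← hχW1]; exact h))⟩ : M0.primeCompl)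
  let hB : B →+* WM := IsLocalization.lift (M := P.primeCompl) (g := hW₀) huW
  have hhB : ∀ b, hB (algebraMap B₀ B b) = hW₀ b := fun b => IsLocalization.lift_eq _ b
  have hA1 : ∀ a : A, (1 : L) ⊗ₜ[A] algebraMap A B₀ a = algebraMap L (L ⊗[A] B₀) (algebraMap A L a) := fun a => by
    rw [Algebra.algebraMap_eq_smul_one a (A := B₀), ← smul_tmul, ← Algebra.algebraMap_eq_smul_one]
    rfl
  have hhBm : ∀ x ∈ (maximalIdeal A).map (algebraMap A B), hB x = 0 := fun x hx => by
    refine (Ideal.map_le_iff_le_comap.2 fun a ha => ?_ : (maximalIdeal A).map (algebraMap A B) ≤ RingHom.ker hB) hx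
    rw [Ideal.mem_comap, RingHom.mem_ker, IsScalarTower.algebraMap_apply A B₀ B, hhB, hW₀e, hA1, hmA a ha,
      map_zero, map_zero]
  let hO : O →ₐ[k] WM :=
    { Ideal.Quotient.lift _ hB hhBm with
      commutes' := fun c => by
        obtain ⟨a, rfl⟩ := residue_surjective c
        show hB (algebraMap A B a) = _
        rw [IsScalarTower.algebraMap_apply A B₀ B, hhB, hW₀e, hA1, IsScalarTower.algebraMap_apply A k L,
          ← IsScalarTower.algebraMap_apply L (L ⊗[A] B₀) WM, ← IsScalarTower.algebraMap_apply k L WM]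
        rfl }
  let h : L ⊗[k] O →ₐ[L] WM := Algebra.TensorProduct.lift (Algebra.ofId L _) hO fun _ _ => Commute.all _ _
  have hh1 : ∀ x : B, h ((1 : L) ⊗ₜ[k] Ideal.Quotient.mk _ x) = hB x := fun x => by
    show Algebra.TensorProduct.lift _ hO _ _ = _
    rw [Algebra.TensorProduct.lift_tmul, map_one, one_mul]
    rfl
  have hg' : χ'.comp g = χW := Algebra.TensorProduct.ext (AlgHom.ext fun l => (χ'.comp g).commutes l |>.trans (χW.commutes l).symm)
    (AlgHom.ext fun b => by
      show χ' (g ((1 : L) ⊗ₜ[A] b)) = χW ((1 : L) ⊗ₜ[A] b)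
      rw [hg1, hχW1]
      simp only [χ', Algebra.TensorProduct.lift_tmul, map_one, one_mul]
      rw [hχO, hχB])
  have hh' : χloc.comp h = χ' := Algebra.TensorProduct.ext (AlgHom.ext fun l => (χloc.comp h).commutes l |>.trans (χ'.commutes l).symm)
    (AlgHom.ext fun x => by
      obtain ⟨x, rfl⟩ := Ideal.Quotient.mk_surjective x
      show χloc (h ((1 : L) ⊗ₜ[k] _)) = χ' ((1 : L) ⊗ₜ[k] _)
      rw [hh1]
      simp only [χ', Algebra.TensorProduct.lift_tmul, map_one, one_mul, hχO]
      refine RingHom.congr_fun (IsLocalization.ringHom_ext P.primeCompl (j := χloc.toRingHom.comp hB) (k := χB) ?_) x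
      refine RingHom.ext fun b => ?_
      show χloc (hB (algebraMap B₀ B b)) = χB (algebraMap B₀ B b)
      rw [hhB, hW₀e, hχloc, hχW1, hχB])
  have hhu : ∀ s : M.primeCompl, IsUnit (h s) := fun s => by
    by_contra hn
    refine s.2 ?_
    show χ' s = 0
    rw [← hh']
    exact hχlocker.ge hn
  let H : (Localization.AtPrime M) →ₐ[L] WM := IsLocalization.liftAlgHom (M := M.primeCompl) hhu
  have hH : ∀ y, H (algebraMap _ (Localization.AtPrime M) y) = h y := fun y => IsLocalization.lift_eq _ y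
  have hgu : ∀ s : M0.primeCompl, IsUnit ((IsScalarTower.toAlgHom L (L ⊗[k] O) (Localization.AtPrime M)).comp g s) := fun s =>
    IsLocalization.map_units (Localization.AtPrime M) (⟨g s, fun hn => s.2 (by
      show χW s = 0
      rw [← hg']; exact hn)⟩ : M.primeCompl)
  let G : WM →ₐ[L] (Localization.AtPrime M) := IsLocalization.liftAlgHom (M := M0.primeCompl) hgu
  have hG : ∀ x, G (algebraMap _ WM x) = algebraMap _ (Localization.AtPrime M) (g x) := fun x => IsLocalization.lift_eq _ x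
  have hhg : h.comp g = IsScalarTower.toAlgHom L (L ⊗[A] B₀) WM := Algebra.TensorProduct.ext
    (AlgHom.ext fun l => (h.comp g).commutes l |>.trans (AlgHom.commutes _ l).symm) (AlgHom.ext fun b => by
      show h (g ((1 : L) ⊗ₜ[A] b)) = algebraMap _ WM ((1 : L) ⊗ₜ[A] b)
      rw [hg1, hh1, hhB, hW₀e])
  have hHG : ∀ w, H (G w) = w := fun w => by
    refine RingHom.congr_fun (IsLocalization.ringHom_ext M0.primeCompl (j := H.toRingHom.comp G.toRingHom)
      (k := RingHom.id WM) (RingHom.ext fun x => ?_)) w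
    show H (G (algebraMap _ WM x)) = algebraMap _ WM x
    rw [hG, hH]
    exact AlgHom.congr_fun hhg x
  have hGh : G.comp h = IsScalarTower.toAlgHom L (L ⊗[k] O) (Localization.AtPrime M) := Algebra.TensorProduct.ext
    (AlgHom.ext fun l => (G.comp h).commutes l |>.trans (AlgHom.commutes _ l).symm) (AlgHom.ext fun x => by
      obtain ⟨x, rfl⟩ := Ideal.Quotient.mk_surjective x
      show G (h ((1 : L) ⊗ₜ[k] Ideal.Quotient.mk _ x)) = algebraMap (L ⊗[k] O) (Localization.AtPrime M) ((1 : L) ⊗ₜ[k] Ideal.Quotient.mk _ x)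
      rw [hh1]
      refine RingHom.congr_fun (IsLocalization.ringHom_ext P.primeCompl (j := G.toRingHom.comp hB)
        (k := (algebraMap (L ⊗[k] O) (Localization.AtPrime M)).comp ((Algebra.TensorProduct.includeRight (R := k) (A := L) (B := O)).toRingHom.comp
          (Ideal.Quotient.mk _))) (RingHom.ext fun b => ?_)) x
      show G (hB (algebraMap B₀ B b)) = algebraMap (L ⊗[k] O) (Localization.AtPrime M)
        ((1 : L) ⊗ₜ[k] Ideal.Quotient.mk ((maximalIdeal A).map (algebraMap A B)) (algebraMap B₀ B b))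
      rw [hhB, hW₀e, hG, hg1])
  have hGH : ∀ z, G (H z) = z := fun z => by
    refine RingHom.congr_fun (IsLocalization.ringHom_ext M.primeCompl (j := G.toRingHom.comp H.toRingHom)
      (k := RingHom.id (Localization.AtPrime M)) (RingHom.ext fun x => ?_)) z
    show G (H (algebraMap _ (Localization.AtPrime M) x)) = algebraMap _ (Localization.AtPrime M) x
    rw [hH]
    exact AlgHom.congr_fun hGh x
  let E : WM ≃+* (Localization.AtPrime M) := RingEquiv.ofRingHom G.toRingHom H.toRingHom (RingHom.ext hGH) (RingHom.ext hHG)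
  haveI : IsNoetherianRing (L ⊗[A] B₀) := Algebra.FiniteType.isNoetherianRing L _
  haveI : IsNoetherianRing WM := IsLocalization.isNoetherianRing M0.primeCompl _ inferInstance
  haveI : IsNoetherianRing (Localization.AtPrime M) := isNoetherianRing_of_ringEquiv WM E
  -- the completion
  obtain ⟨f, hf, ⟨e⟩⟩ := hq M
  let T := MvPowerSeries (Fin (n + 1)) L ⧸ Ideal.span {f}
  have hne : mT f ≠ ⊤ := fun htop => by
    have h1 : (1 : MvPowerSeries (Fin (n + 1)) L) ∈ (mT f).comap (Ideal.Quotient.mk _) := by rw [htop]; trivial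
    rw [Ideal.comap_map_of_surjective _ Ideal.Quotient.mk_surjective, ← RingHom.ker_eq_comap_bot, Ideal.mk_ker,
      sup_eq_left.2 ((Ideal.span_singleton_le_iff_mem _).2 (by
        rw [mem_maximalIdeal, mem_nonunits_iff, MvPowerSeries.isUnit_iff_constantCoeff, (hR f hf).1]
        exact not_isUnit_zero))] at h1
    exact (maximalIdeal.isMaximal _).ne_top ((Ideal.eq_top_iff_one _).2 h1)
  haveI : Nontrivial T := nontrivial_of_ne (0 : T) 1 fun h01 => hne ((Ideal.eq_top_iff_one _).2 (h01 ▸ zero_mem _))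
  haveI : IsLocalRing T := IsLocalRing.of_surjective' _ Ideal.Quotient.mk_surjective
  have hmT : mT f = maximalIdeal T := IsLocalRing.map_maximalIdeal_of_surjective _ Ideal.Quotient.mk_surjective
  obtain ⟨φ, hfac, hdense⟩ := completion_iso_facts e
  let ψ : L ⊗[A] B₀ →ₐ[L] T := φ.comp (G.comp (IsScalarTower.toAlgHom L (L ⊗[A] B₀) WM))
  have hψe : ∀ x, ψ x = φ (G (algebraMap _ WM x)) := fun x => rfl
  have hE : ∀ j (w : WM), G w ∈ maximalIdeal (Localization.AtPrime M) ^ j ↔ w ∈ maximalIdeal WM ^ j := fun j w =>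
    equiv_mem_pow (S := Localization.AtPrime M) E j w
  have hiff : ∀ j x, ψ x ∈ mT f ^ j ↔ x ∈ M0 ^ j := fun j x => by
    rw [hψe, hmT, hfac, hE, ← Ideal.mem_comap]
    exact (SetLike.ext_iff.1 (IsLocalization.AtPrime.under_maximalIdeal_pow (p := M0) (Rₚ := WM) j) x)
  refine ⟨f, hf, ψ, ?_, ?_, fun b => ?_⟩
  · intro j x
    rw [hiff, show (mT f).comap ψ.toRingHom = M0 from Ideal.ext fun z => by
      rw [Ideal.mem_comap, ← pow_one (mT f)]; exact (hiff 1 z).trans (by rw [pow_one])]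
  · intro j y
    obtain ⟨r, hr⟩ := hdense j y
    obtain ⟨w, rfl⟩ := E.surjective r
    obtain ⟨v, hv⟩ := (IsLocalization.AtPrime.equivQuotMaximalIdealPow M0 WM j).surjective (Ideal.Quotient.mk _ w)
    obtain ⟨v, rfl⟩ := Ideal.Quotient.mk_surjective v
    rw [IsLocalization.AtPrime.equivQuotMaximalIdealPow_apply_mk] at hv
    refine ⟨v, ?_⟩
    rw [hψe, hmT]
    have h5 : φ (G (w - algebraMap _ WM v)) ∈ maximalIdeal T ^ j := by
      rw [hfac, hE]
      exact Ideal.Quotient.eq.1 hv.symm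
    rw [map_sub, map_sub] at h5
    exact sub_add_sub_cancel y _ _ ▸ add_mem hr h5
  · rw [← pow_one (mT f), hiff, pow_one]
    show χW _ = 0 ↔ _
    rw [hχW1, hχ₀]

/-- A geometric point of the closed fibre at a quadratic singularity, with its truncations. -/
theorem exists_geom_point (hP : (maximalIdeal A).map (algebraMap A B₀) ≤ P)
    (hPi : ∀ y : B₀, ∃ (e : ℕ) (c : A), y ^ ringExpChar (ResidueField A) ^ e - algebraMap A B₀ c ∈ P)
    (n : ℕ) (hq : VanCyc.IsNondegQuadPt (VanCyc.fibHom A (Localization.AtPrime P)) n) :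
    ∃ f : MvPowerSeries (Fin (n + 1)) (AlgebraicClosure (ResidueField A)), VanCyc.NondegQuadSeries f ∧
      ∃ ψ : AlgebraicClosure (ResidueField A) ⊗[A] B₀ →ₐ[AlgebraicClosure (ResidueField A)]
          MvPowerSeries (Fin (n + 1)) (AlgebraicClosure (ResidueField A)) ⧸ Ideal.span {f},
        (∀ j x, ψ x ∈ mT f ^ j ↔ x ∈ ((mT f).comap ψ.toRingHom) ^ j) ∧
        (∀ j y, ∃ x, y - ψ x ∈ mT f ^ j) ∧ ∀ b, ψ ((1 : AlgebraicClosure (ResidueField A)) ⊗ₜ[A] b) ∈ mT f ↔ b ∈ P :=
  exists_geom_point_of A B₀ P hP hPi n VanCyc.NondegQuadSeries (fun _ h => h.1) hq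

end Groth.Agent.QuadFormH2
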