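import Groth.Agent.EGA43.HenselCompare.Model
import Mathlib.RingTheory.MvPolynomial.Basic
import Mathlib.RingTheory.FiniteType

/-!
# Algebras whose truncations are those of power series
-/

set_option autoImplicit false
set_option linter.style.haveILetI false

universe u

open IsLocalRing

namespace Groth.Agent.QuadFormH2

open EGA43.HenselCompare in
theorem mem_vars_pow_of_aeval {k : Type u} [Field k] {N : ℕ} (z : Fin N → MvPowerSeries (Fin N) k)
    (hz : ∀ i, z i ∈ maximalIdeal (MvPowerSeries (Fin N) k))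
    (hsurj : ∀ j y, ∃ p : MvPolynomial (Fin N) k, y - MvPolynomial.aeval z p ∈ maximalIdeal (MvPowerSeries (Fin N) k) ^ j)
    (j : ℕ) (p : MvPolynomial (Fin N) k) (hp : MvPolynomial.aeval z p ∈ maximalIdeal (MvPowerSeries (Fin N) k) ^ j) :
    p ∈ MvPolynomial.idealOfVars (Fin N) k ^ j := by
  classical
  let PS := MvPowerSeries (Fin N) k
  let I : Ideal (MvPolynomial (Fin N) k) := MvPolynomial.idealOfVars (Fin N) k ^ j
  let tr : PS →ₐ[k] MvPolynomial (Fin N) k ⧸ I := (MvPowerSeries.truncTotalAlgHom (Fin N) k j).restrictScalars k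
  have htr : ∀ y, y ∈ maximalIdeal PS ^ j → tr y = 0 := fun y hy => by
    show Ideal.Quotient.mk I (MvPowerSeries.truncTotal j y) = 0
    rw [Ideal.Quotient.eq_zero_iff_mem, MvPolynomial.mem_pow_idealOfVars_iff']
    intro d hd
    rw [MvPowerSeries.coeff_truncTotal _ hd]
    exact ordGE_of_mem_pow hy d hd
  have htrs : ∀ q : MvPolynomial (Fin N) k, tr (q : PS) = Ideal.Quotient.mk I q := fun q => by
    show Ideal.Quotient.mk I (MvPowerSeries.truncTotal j (q : PS)) = _
    rw [Ideal.Quotient.eq, MvPolynomial.mem_pow_idealOfVars_iff']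
    intro d hd
    rw [MvPolynomial.coeff_sub, MvPowerSeries.coeff_truncTotal _ hd, MvPolynomial.coeff_coe, sub_self]
  let Φ : MvPolynomial (Fin N) k →ₐ[k] MvPolynomial (Fin N) k ⧸ I := tr.comp (MvPolynomial.aeval z)
  have hΦ : ∀ q ∈ I, Φ q = 0 := fun q hq => htr _ (by
    have h1 : (MvPolynomial.idealOfVars (Fin N) k).map (MvPolynomial.aeval z).toRingHom ≤ maximalIdeal PS := by
      rw [MvPolynomial.idealOfVars, Ideal.map_span, Ideal.span_le]
      rintro _ ⟨_, ⟨i, rfl⟩, rfl⟩
      show MvPolynomial.aeval z (MvPolynomial.X i) ∈ _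
      rw [MvPolynomial.aeval_X]; exact hz i
    have h2 := Ideal.mem_map_of_mem (MvPolynomial.aeval z).toRingHom hq
    rw [Ideal.map_pow] at h2
    exact Ideal.pow_right_mono h1 j h2)
  let Ψ : (MvPolynomial (Fin N) k ⧸ I) →ₐ[k] MvPolynomial (Fin N) k ⧸ I := Ideal.Quotient.liftₐ I Φ hΦ
  have hΨ : Function.Surjective Ψ := fun y => by
    obtain ⟨q, rfl⟩ := Ideal.Quotient.mk_surjective y
    obtain ⟨r, hr⟩ := hsurj j (q : PS)
    refine ⟨Ideal.Quotient.mk I r, ?_⟩
    show tr (MvPolynomial.aeval z r) = _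
    have := htr _ hr
    rw [map_sub, sub_eq_zero] at this
    rw [← this, htrs]
  haveI : Module.Finite k (MvPolynomial (Fin N) k ⧸ I) := by
    refine Module.Finite.of_surjective ((Ideal.Quotient.mkₐ k I).toLinearMap.comp
      (MvPolynomial.restrictTotalDegree (Fin N) k j).subtype) fun y => ?_
    obtain ⟨q, rfl⟩ := Ideal.Quotient.mk_surjective y
    refine ⟨⟨MvPowerSeries.truncTotal j (q : PS), ?_⟩, htrs q⟩
    rw [MvPolynomial.mem_restrictTotalDegree, MvPolynomial.totalDegree, Finset.sup_le_iff]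
    intro d hd
    by_contra hlt
    rw [MvPolynomial.mem_support_iff] at hd
    refine hd ?_
    rw [MvPowerSeries.coeff_truncTotal_eq_zero]
    show j ≤ Finsupp.degree d
    rw [Finsupp.degree_eq_sum]
    simp only [Finsupp.sum] at hlt
    rw [← Finset.sum_subset (Finset.subset_univ d.support) (fun i _ hi => Finsupp.notMem_support_iff.1 hi)]
    omega
  have hinj : Function.Injective Ψ.toLinearMap := OrzechProperty.injective_of_surjective_endomorphism _ hΨ
  rw [← Ideal.Quotient.eq_zero_iff_mem]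
  apply hinj
  rw [map_zero]
  exact htr _ hp

/-- Polynomials in generators of `M` exhaust an algebra modulo powers of `M`. -/
theorem exists_aeval_sub_mem_pow {k : Type u} [CommRing k] {R : Type u} [CommRing R] [Algebra k R] {σ : Type}
    (M : Ideal R) (hres : ∀ x : R, ∃ c : k, x - algebraMap k R c ∈ M) (z : σ → R) (hz : ∀ i, z i ∈ M)
    (hM : M ≤ Ideal.span (Set.range z) ⊔ M ^ 2) :
    ∀ (j : ℕ) (x : R), ∃ p : MvPolynomial σ k, x - MvPolynomial.aeval z p ∈ M ^ j := by
  have hone : ∀ b ∈ M, ∃ p : MvPolynomial σ k, MvPolynomial.aeval z p ∈ M ∧ b - MvPolynomial.aeval z p ∈ M ^ 2 := by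
    have hs : ∀ b ∈ Ideal.span (Set.range z), ∃ p : MvPolynomial σ k,
        MvPolynomial.aeval z p ∈ M ∧ b - MvPolynomial.aeval z p ∈ M ^ 2 := by
      intro b hb
      induction hb using Submodule.span_induction with
      | mem b hb =>
        obtain ⟨i, rfl⟩ := hb
        exact ⟨MvPolynomial.X i, by simpa using hz i, by simp⟩
      | zero => exact ⟨0, by simp, by simp⟩
      | add a b _ _ ha hb =>
        obtain ⟨p, hp, hp'⟩ := ha
        obtain ⟨q, hq, hq'⟩ := hb
        exact ⟨p + q, by rw [map_add]; exact add_mem hp hq, by rw [map_add, add_sub_add_comm]; exact add_mem hp' hq'⟩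
      | smul r b _ hb =>
        obtain ⟨p, hp, hp'⟩ := hb
        obtain ⟨c, hc⟩ := hres r
        refine ⟨MvPolynomial.C c * p, by rw [map_mul]; exact Ideal.mul_mem_left _ _ hp, ?_⟩
        rw [map_mul, MvPolynomial.aeval_C, smul_eq_mul]
        have : r * b - algebraMap k R c * MvPolynomial.aeval z p =
            (r - algebraMap k R c) * MvPolynomial.aeval z p + r * (b - MvPolynomial.aeval z p) := by ring
        rw [this]
        exact add_mem (by rw [pow_two]; exact Ideal.mul_mem_mul hc hp) (Ideal.mul_mem_left _ _ hp')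
    intro b hb
    obtain ⟨b', hb', m, hm, rfl⟩ := Submodule.mem_sup.1 (hM hb)
    obtain ⟨p, hp, hp'⟩ := hs b' hb'
    exact ⟨p, hp, by rw [add_sub_right_comm]; exact add_mem hp' hm⟩
  have hstep : ∀ (j : ℕ), ∀ x ∈ M ^ j, ∃ p : MvPolynomial σ k,
      MvPolynomial.aeval z p ∈ M ^ j ∧ x - MvPolynomial.aeval z p ∈ M ^ (j + 1) := by
    intro j
    induction j with
    | zero =>
      intro x _
      obtain ⟨c, hc⟩ := hres x
      exact ⟨MvPolynomial.C c, by simp, by simpa using hc⟩
    | succ j ih =>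
      intro x hx
      rw [pow_succ] at hx
      refine Submodule.mul_induction_on hx (fun a ha b hb => ?_) fun a b ha hb => ?_
      · obtain ⟨p, hp, hp'⟩ := ih a ha
        obtain ⟨q, hq, hq'⟩ := hone b hb
        refine ⟨p * q, by rw [map_mul, pow_succ]; exact Ideal.mul_mem_mul hp hq, ?_⟩
        rw [map_mul, show a * b - MvPolynomial.aeval z p * MvPolynomial.aeval z q =
          (a - MvPolynomial.aeval z p) * b + MvPolynomial.aeval z p * (b - MvPolynomial.aeval z q) by ring]
        refine add_mem (by rw [pow_succ]; exact Ideal.mul_mem_mul hp' hb) ?_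
        have := Ideal.mul_mem_mul hp hq'
        rwa [← pow_add] at this
      · obtain ⟨p, hp, hp'⟩ := ha
        obtain ⟨q, hq, hq'⟩ := hb
        exact ⟨p + q, by rw [map_add]; exact add_mem hp hq, by rw [map_add, add_sub_add_comm]; exact add_mem hp' hq'⟩
  intro j
  induction j with
  | zero => exact fun x => ⟨0, by simp⟩
  | succ j ih =>
    intro x
    obtain ⟨p, hp⟩ := ih x
    obtain ⟨q, -, hq⟩ := hstep j _ hp
    exact ⟨p + q, by rw [map_add, ← sub_sub]; exact hq⟩

/-- An algebra mapping to power series compatibly with generators has the same truncations. -/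
theorem truncations {k : Type u} [Field k] {N : ℕ} {R : Type u} [CommRing R] [Algebra k R] (M : Ideal R)
    (hres : ∀ x : R, ∃ c : k, x - algebraMap k R c ∈ M) (z : Fin N → R) (hzM : ∀ i, z i ∈ M)
    (hM : M ≤ Ideal.span (Set.range z) ⊔ M ^ 2) (φ : R →ₐ[k] MvPowerSeries (Fin N) k)
    (hφ : ∀ x ∈ M, φ x ∈ maximalIdeal (MvPowerSeries (Fin N) k))
    (hgen : maximalIdeal (MvPowerSeries (Fin N) k) ≤ Ideal.span (Set.range fun i => φ (z i)) ⊔
      maximalIdeal (MvPowerSeries (Fin N) k) ^ 2) :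
    (∀ j x, φ x ∈ maximalIdeal (MvPowerSeries (Fin N) k) ^ j ↔ x ∈ M ^ j) ∧
      ∀ j y, ∃ x, y - φ x ∈ maximalIdeal (MvPowerSeries (Fin N) k) ^ j := by
  let m := maximalIdeal (MvPowerSeries (Fin N) k)
  have hPS := exists_aeval_sub_mem_pow m (fun y => ⟨MvPowerSeries.constantCoeff y, by
    rw [Et18.mem_maximalIdeal_iff]; simp [MvPowerSeries.algebraMap_apply]⟩) (fun i => φ (z i)) (fun i => hφ _ (hzM i)) hgen
  have hR := exists_aeval_sub_mem_pow M hres z hzM hM
  have hpow : ∀ j, (M ^ j).map φ.toRingHom ≤ m ^ j := fun j => by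
    rw [Ideal.map_pow]
    exact Ideal.pow_right_mono (Ideal.map_le_iff_le_comap.2 hφ) j
  have hev : ∀ p : MvPolynomial (Fin N) k, φ (MvPolynomial.aeval z p) = MvPolynomial.aeval (fun i => φ (z i)) p :=
    fun p => (MvPolynomial.comp_aeval_apply z φ p).trans rfl
  refine ⟨fun j x => ⟨fun hx => ?_, fun hx => hpow j (Ideal.mem_map_of_mem _ hx)⟩, fun j y => ?_⟩
  · obtain ⟨p, hp⟩ := hR j x
    have h1 : φ (MvPolynomial.aeval z p) ∈ m ^ j := by
      have h2 : φ (x - MvPolynomial.aeval z p) ∈ m ^ j := hpow j (Ideal.mem_map_of_mem φ.toRingHom hp)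
      rw [map_sub] at h2
      simpa using sub_mem hx h2
    rw [hev] at h1
    have h3 := mem_vars_pow_of_aeval _ (fun i => hφ _ (hzM i)) hPS j p h1
    have h4 : (MvPolynomial.idealOfVars (Fin N) k).map (MvPolynomial.aeval z).toRingHom ≤ M := by
      rw [MvPolynomial.idealOfVars, Ideal.map_span, Ideal.span_le]
      rintro _ ⟨_, ⟨i, rfl⟩, rfl⟩
      simpa using hzM i
    have h5 := Ideal.mem_map_of_mem (MvPolynomial.aeval z).toRingHom h3
    rw [Ideal.map_pow] at h5
    exact sub_add_cancel x (MvPolynomial.aeval z p) ▸ add_mem hp (Ideal.pow_right_mono h4 j h5)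
  · obtain ⟨p, hp⟩ := hPS j y
    exact ⟨MvPolynomial.aeval z p, by rw [hev]; exact hp⟩

end Groth.Agent.QuadFormH2
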