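import Groth.Agent.QuadFormH2.Coords
import Groth.Agent.QuadFormH2.Trunc
import Groth.Agent.QuadFormH2.Frame
import Groth.Agent.CAlgH.PowerSeriesEval
import Mathlib.RingTheory.Unramified.LocalStructure
import Mathlib.RingTheory.MvPowerSeries.Derivative
import Mathlib.RingTheory.Filtration
import Mathlib.RingTheory.Flat.EquationalCriterion
import Mathlib.LinearAlgebra.TensorProduct.RightExactness

/-!
# An embedding of a non-degenerate quadratic family in étale coordinates
-/

set_option autoImplicit false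
set_option linter.style.haveILetI false

universe u

open IsLocalRing TensorProduct

namespace Groth.Agent.QuadFormH2

/-- Near a quadratic point of the closed fibre a flat family is cut out in étale coordinates by one equation
with a critical point, together with a formal geometric point of the ambient algebra. -/
theorem exists_presentation_of (A : Type u) [CommRing A] [IsLocalRing A] (B₀ : Type u) [CommRing B₀] [Algebra A B₀]
    [Algebra.FinitePresentation A B₀] (P : Ideal B₀) [P.IsMaximal] (hP : (maximalIdeal A).map (algebraMap A B₀) ≤ P)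
    (hPi : ∀ y : B₀, ∃ (e : ℕ) (c : A), y ^ ringExpChar (ResidueField A) ^ e - algebraMap A B₀ c ∈ P)
    [Module.Flat A (Localization.AtPrime P)] (n : ℕ)
    (R : MvPowerSeries (Fin (n + 1)) (AlgebraicClosure (ResidueField A)) → Prop)
    (hR : ∀ f, R f → VanCyc.NoLowTerms f) (hR3 : ∀ f, R f → ∃ i j, VanCyc.quadPart f i j ≠ 0)
    (hq : letI := (VanCyc.fibHom A (Localization.AtPrime P)).toAlgebra
      ∀ (M : Ideal (AlgebraicClosure (ResidueField A) ⊗[ResidueField A] VanCyc.fibQuot A (Localization.AtPrime P)))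
        [M.IsMaximal], HasModel (AlgebraicClosure (ResidueField A)) (Localization.AtPrime M) R) :
    ∃ (C : Type u) (_ : CommRing C) (_ : Algebra A C) (t : Fin (n + 1) → C) (h : IsFrame A t)
      (π : C →ₐ[A] Localization.AtPrime P) (F : C),
      π F = 0 ∧ (∀ b, ∃ c s, IsUnit (π s) ∧ π s * b = π c) ∧
      (∀ x, π x = 0 → ∃ s w, IsUnit (π s) ∧ s * x = w * F) ∧
      (∀ i, ¬ IsUnit (π (h.pd i F))) ∧
      ∃ (f : MvPowerSeries (Fin (n + 1)) (AlgebraicClosure (ResidueField A)))
        (Λ : C →ₐ[A] MvPowerSeries (Fin (n + 1)) (AlgebraicClosure (ResidueField A)))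
        (v : MvPowerSeries (Fin (n + 1)) (AlgebraicClosure (ResidueField A))),
        R f ∧ Λ F = v * f ∧ MvPowerSeries.constantCoeff v ≠ 0 ∧
        (∀ c, IsUnit (π c) ↔ MvPowerSeries.constantCoeff (Λ c) ≠ 0) ∧
        IsUnit (Matrix.of fun i j => lin (Λ (t i)) j).det ∧
        ∀ (j : Fin (n + 1)) (x : C), MvPowerSeries.pderiv (AlgebraicClosure (ResidueField A)) j (Λ x) =
          ∑ i, MvPowerSeries.pderiv (AlgebraicClosure (ResidueField A)) j (Λ (t i)) * Λ (h.pd i x) := by
  classical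
  obtain ⟨f, hf, ψ, hψker, hψd, hψP⟩ := exists_geom_point_of A B₀ P hP hPi n R hR hq
  have hlow := hR f hf
  let k := ResidueField A
  let L := AlgebraicClosure k
  let N := n + 1
  let PS := MvPowerSeries (Fin N) L
  let T := PS ⧸ Ideal.span {f}
  let m : Ideal PS := maximalIdeal PS
  let q : PS →ₐ[L] T := Ideal.Quotient.mkₐ L _
  obtain ⟨t₀, θ, hθ, hJ, hunr⟩ := exists_coords P hlow ψ hψker hψd hψP
  let S := MvPolynomial (Fin N) A
  letI : Algebra S B₀ := (MvPolynomial.aeval (R := A) t₀).toRingHom.toAlgebra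
  haveI : IsScalarTower A S B₀ :=
    IsScalarTower.of_algebraMap_eq fun a => ((MvPolynomial.aeval (R := A) t₀).commutes a).symm
  haveI : Algebra.FiniteType S B₀ := Algebra.FiniteType.of_restrictScalars_finiteType A S B₀
  haveI : Algebra.IsUnramifiedAt S P := hunr
  obtain ⟨g, hg, P', ψ', hψ'⟩ := Algebra.IsUnramifiedAt.exists_hasStandardEtaleSurjectionOn (R := S) P
  let Af := Localization.Away g
  let C := P'.Ring
  letI : Algebra A C := ((algebraMap S C).comp (algebraMap A S)).toAlgebra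
  haveI : IsScalarTower A S C := IsScalarTower.of_algebraMap_eq fun _ => rfl
  let ψR : C →ₐ[A] Af := ψ'.restrictScalars A
  haveI : Algebra.FinitePresentation A C := Algebra.FinitePresentation.trans A S C
  haveI : Algebra.FinitePresentation A Af := Algebra.FinitePresentation.trans A B₀ Af
  let t : Fin N → C := fun i => algebraMap S C (MvPolynomial.X i)
  have ht : IsFrame A t := by
    have : MvPolynomial.aeval (R := A) t = IsScalarTower.toAlgHom A S C :=
      MvPolynomial.algHom_ext fun i => by rw [MvPolynomial.aeval_X]; rfl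
    show (MvPolynomial.aeval (R := A) t).toRingHom.Etale
    rw [this]
    exact RingHom.etale_algebraMap.2 inferInstance
  -- the target
  have hfm : f ∈ m := by
    rw [mem_maximalIdeal, mem_nonunits_iff, MvPowerSeries.isUnit_iff_constantCoeff, hlow.1]
    exact not_isUnit_zero
  have hmTc : (mT f).comap q.toRingHom = m := by
    show ((m.map (Ideal.Quotient.mk _)).comap (Ideal.Quotient.mk _)) = m
    rw [Ideal.comap_map_of_surjective _ Ideal.Quotient.mk_surjective, ← RingHom.ker_eq_comap_bot, Ideal.mk_ker,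
      sup_eq_left.2 ((Ideal.span_singleton_le_iff_mem _).2 hfm)]
  have hmT : ∀ y, q y ∈ mT f ↔ y ∈ m := fun y => by
    conv_rhs => rw [← hmTc]
    rfl
  haveI : Nontrivial T := nontrivial_of_ne (0 : T) 1 fun h01 => (maximalIdeal.isMaximal PS).ne_top
    ((Ideal.eq_top_iff_one _).2 ((hmT 1).1 (by rw [map_one, ← h01]; exact zero_mem _)))
  haveI : IsLocalRing T := IsLocalRing.of_surjective' (Ideal.Quotient.mk _) Ideal.Quotient.mk_surjective
  have hmTmax : mT f = maximalIdeal T :=
    IsLocalRing.map_maximalIdeal_of_surjective _ Ideal.Quotient.mk_surjective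
  have huT : ∀ z, z ∉ mT f → IsUnit z := fun z hz => by rwa [hmTmax, mem_maximalIdeal, mem_nonunits_iff, not_not] at hz
  let ψ₁ : B₀ →ₐ[A] T := (ψ.restrictScalars A).comp Algebra.TensorProduct.includeRight
  have hψ₁ : ∀ b, ψ₁ b = ψ ((1 : L) ⊗ₜ[A] b) := fun b => rfl
  have hgu : IsUnit (ψ₁ g) := huT _ fun h => hg ((hψP g).1 h)
  let Ψ : Af →ₐ[A] T := IsLocalization.Away.liftAlgHom g (f := ψ₁) hgu
  have hΨ : ∀ b, Ψ (algebraMap B₀ Af b) = ψ₁ b := fun b => IsLocalization.Away.lift_eq (g := ψ₁.toRingHom) g hgu b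
  -- the lifted point
  haveI : IsNoetherianRing PS := inferInstance
  have hXm : Ideal.span (Set.range (MvPowerSeries.X : Fin N → PS)) = m :=
    le_antisymm (Ideal.span_le.2 fun _ ⟨i, hi⟩ => hi ▸ Et18.mem_maximalIdeal_iff.2 (by simp)) fun p hp => by
      rw [← Et18.sum_X_mul_divVar p (Et18.mem_maximalIdeal_iff.1 hp)]
      exact Ideal.sum_mem _ fun i _ => Ideal.mul_mem_right _ _ (Ideal.subset_span ⟨i, rfl⟩)
  haveI : IsAdicComplete m PS := hXm ▸ CAlgH.isAdicComplete_mvPowerSeries (Fin N) L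
  have hTH : IsHausdorff (m.map q.toRingHom) T := by
    show IsHausdorff (mT f) T
    rw [hmTmax]
    refine ⟨fun x hx => ?_⟩
    have h1 : x ∈ ⨅ j : ℕ, maximalIdeal T ^ j := Ideal.mem_iInf.2 fun j => by simpa using SModEq.sub_mem.1 (hx j)
    rw [Ideal.iInf_pow_eq_bot_of_isLocalRing _ (maximalIdeal.isMaximal T).ne_top] at h1
    exact h1
  have hXi : ∀ i, algebraMap S B₀ (MvPolynomial.X i) = t₀ i := fun i => MvPolynomial.aeval_X t₀ i
  obtain ⟨Λ₀, hΛ₀, hΛq⟩ := exists_point_lift m (MvPolynomial.aeval (R := A) θ).toRingHom q.toRingHom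
    (Ideal.Quotient.mk_surjective) (by
      show RingHom.ker (Ideal.Quotient.mk _) ≤ m
      rw [Ideal.mk_ker, Ideal.span_singleton_le_iff_mem]; exact hfm) hTH (Ψ.toRingHom.comp ψR.toRingHom) (by
      refine MvPolynomial.ringHom_ext (fun a => ?_) fun i => ?_
      · show Ψ (ψ' (algebraMap S C (MvPolynomial.C a))) = q (MvPolynomial.aeval θ (MvPolynomial.C a))
        rw [ψ'.commutes, IsScalarTower.algebraMap_apply S B₀ Af, hΨ, MvPolynomial.aeval_C]
        rw [show algebraMap S B₀ (MvPolynomial.C a) = algebraMap A B₀ a from MvPolynomial.aeval_C t₀ a, ψ₁.commutes]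
        exact ((q.restrictScalars A).commutes a).symm
      · show Ψ (ψ' (algebraMap S C (MvPolynomial.X i))) = q (MvPolynomial.aeval θ (MvPolynomial.X i))
        rw [ψ'.commutes, IsScalarTower.algebraMap_apply S B₀ Af, hΨ, MvPolynomial.aeval_X, hXi, hψ₁]
        exact (hθ i).symm)
  let Λ : C →ₐ[A] PS :=
    { Λ₀ with
      commutes' := fun a => by
        show Λ₀ (algebraMap S C (algebraMap A S a)) = _
        rw [show Λ₀ (algebraMap S C (algebraMap A S a)) = MvPolynomial.aeval θ (algebraMap A S a) from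
          RingHom.congr_fun hΛ₀ _, AlgHom.commutes] }
  have hqΛ : ∀ c, q (Λ c) = Ψ (ψR c) := fun c => RingHom.congr_fun hΛq c
  have hΛt : ∀ i, Λ (t i) = θ i := fun i => (RingHom.congr_fun hΛ₀ (MvPolynomial.X i)).trans (MvPolynomial.aeval_X θ i)
  let cc : PS →+* L := MvPowerSeries.constantCoeff
  have hccm : ∀ y, y ∈ m ↔ cc y = 0 := fun y => Et18.mem_maximalIdeal_iff
  -- the point of `B`
  let B := Localization.AtPrime P
  have hgB : IsUnit (IsScalarTower.toAlgHom A B₀ B g) := IsLocalization.map_units B (⟨g, hg⟩ : P.primeCompl)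
  let lB : Af →ₐ[A] B := IsLocalization.Away.liftAlgHom g (f := IsScalarTower.toAlgHom A B₀ B) hgB
  have hlB : ∀ b, lB (algebraMap B₀ Af b) = algebraMap B₀ B b := fun b =>
    IsLocalization.Away.lift_eq (g := (IsScalarTower.toAlgHom A B₀ B).toRingHom) g hgB b
  let π : C →ₐ[A] B := lB.comp ψR
  have hπ : ∀ c, π c = lB (ψR c) := fun c => rfl
  have hsurjAf : ∀ z : Af, ∃ (b : B₀) (e : ℕ), z * algebraMap B₀ Af g ^ e = algebraMap B₀ Af b := fun z => by
    obtain ⟨⟨b, _, e, rfl⟩, he⟩ := IsLocalization.surj (Submonoid.powers g) z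
    exact ⟨b, e, by rw [← map_pow]; exact he⟩
  have hQ : ∀ c, IsUnit (π c) ↔ cc (Λ c) ≠ 0 := fun c => by
    obtain ⟨b, e, hb⟩ := hsurjAf (ψR c)
    have h1 : π c * algebraMap B₀ B g ^ e = algebraMap B₀ B b := by
      rw [hπ, ← hlB g, ← map_pow, ← map_mul, hb, hlB]
    have h2 : q (Λ c) * ψ₁ g ^ e = ψ₁ b := by
      rw [hqΛ, ← hΨ g, ← map_pow, ← map_mul, hb, hΨ]
    rw [← not_iff_not, not_not, ← hccm, ← hmT, ← mem_nonunits_iff, ← mem_maximalIdeal,
      ← Ideal.mul_unit_mem_iff_mem (mT f) (hgu.pow e), h2, hψ₁, hψP,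
      ← Ideal.mul_unit_mem_iff_mem (maximalIdeal B) ((IsLocalization.map_units B (⟨g, hg⟩ : P.primeCompl)).pow e),
      h1, ← Ideal.mem_comap]
    exact SetLike.ext_iff.1 (Localization.AtPrime.under_maximalIdeal (I := P)) b
  have hπs : ∀ b, ∃ c s, IsUnit (π s) ∧ π s * b = π c := fun b => by
    obtain ⟨⟨b₀, s₀⟩, hb⟩ := IsLocalization.surj P.primeCompl b
    obtain ⟨c, hc⟩ := hψ' (algebraMap B₀ Af b₀)
    obtain ⟨s, hs⟩ := hψ' (algebraMap B₀ Af s₀)
    have hs' : π s = algebraMap B₀ B s₀ := by rw [hπ, show ψR s = _ from hs, hlB]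
    exact ⟨c, s, hs' ▸ IsLocalization.map_units B s₀, by
      rw [hs', hπ, show ψR c = _ from hc, hlB, mul_comm]; exact hb⟩
  let K : Ideal C := RingHom.ker ψR.toRingHom
  have hKfg : K.FG := Algebra.FinitePresentation.ker_fG_of_surjective ψR hψ'
  have hπK : ∀ x, π x = 0 → ∃ s, IsUnit (π s) ∧ s * x ∈ K := fun x hx => by
    obtain ⟨b, e, hb⟩ := hsurjAf (ψR x)
    have h1 : algebraMap B₀ B b = 0 := by rw [← hlB, ← hb, map_mul, ← hπ, hx, zero_mul]
    obtain ⟨⟨s₀, hs₀⟩, hs₀b⟩ := (IsLocalization.map_eq_zero_iff P.primeCompl B b).1 h1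
    obtain ⟨s, hs⟩ := hψ' (algebraMap B₀ Af s₀)
    refine ⟨s, by rw [hπ, show ψR s = _ from hs, hlB]; exact IsLocalization.map_units B (⟨s₀, hs₀⟩ : P.primeCompl), ?_⟩
    show ψR (s * x) = 0
    refine ((IsLocalization.Away.algebraMap_isUnit (S := Af) g).pow e).mul_left_eq_zero.1 ?_
    rw [map_mul, mul_assoc, hb, show ψR s = _ from hs, ← map_mul, hs₀b, map_zero]
  let mC : Ideal C := (maximalIdeal A).map (algebraMap A C)
  have hflat : ∀ z ∈ K, z ∈ mC → ∃ s, IsUnit (π s) ∧ s * z ∈ mC * K := by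
    intro z hzK hzm
    obtain ⟨l, c, r', hcr⟩ := Submodule.mem_span_set'.1 hzm
    choose r hrm hr using fun i => (r' i).2
    have hz : z = ∑ i, algebraMap A C (r i) * c i := by
      rw [← hcr]
      exact Finset.sum_congr rfl fun i _ => by rw [smul_eq_mul, hr i, mul_comm]
    have hsum : ∑ i, r i • π (c i) = 0 := by
      have h1 : π z = 0 := by rw [hπ, show ψR z = 0 from hzK, map_zero]
      rw [hz, map_sum] at h1
      simpa only [Algebra.smul_def, map_mul, AlgHom.commutes] using h1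
    obtain ⟨m', Nm, y, hy, hN⟩ := Module.Flat.isTrivialRelation_of_sum_smul_eq_zero (R := A) (M := B)
      (f := r) (x := fun i => π (c i)) hsum
    choose y₀ s₀ hs₀ hys using fun j => hπs (y j)
    let y₁ : Fin m' → C := fun j => (∏ j' ∈ Finset.univ.erase j, s₀ j') * y₀ j
    have hy₁ : ∀ j, π (∏ j', s₀ j') * y j = π (y₁ j) := fun j => by
      rw [← Finset.mul_prod_erase _ _ (Finset.mem_univ j)]
      simp only [y₁, map_mul]
      linear_combination π (∏ j' ∈ Finset.univ.erase j, s₀ j') * hys j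
    let κ : Fin l → C := fun i => (∏ j', s₀ j') * c i - ∑ j, algebraMap A C (Nm i j) * y₁ j
    have hκ : ∀ i, π (κ i) = 0 := fun i => by
      simp only [κ, map_sub, map_sum, map_mul, AlgHom.commutes]
      rw [show π (c i) = _ from hy i, Finset.mul_sum, sub_eq_zero]
      refine Finset.sum_congr rfl fun j _ => ?_
      rw [← hy₁, Algebra.smul_def]; ring
    choose s₁ hs₁ hs₁K using fun i => hπK _ (hκ i)
    refine ⟨(∏ i, s₁ i) * ∏ j', s₀ j', ?_, ?_⟩
    · rw [map_mul, map_prod, map_prod]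
      exact (IsUnit.prod_iff.2 fun i _ => hs₁ i).mul (IsUnit.prod_iff.2 fun j _ => hs₀ j)
    · have h0 : ∀ j, ∑ i, algebraMap A C (r i) * algebraMap A C (Nm i j) = 0 := fun j => by
        simp only [← map_mul, ← map_sum, hN j, map_zero]
      have h1 : ∑ i, algebraMap A C (r i) * ∑ j, algebraMap A C (Nm i j) * y₁ j = 0 := by
        rw [Finset.sum_congr rfl fun i _ => Finset.mul_sum Finset.univ _ (algebraMap A C (r i)), Finset.sum_comm]
        refine Finset.sum_eq_zero fun j _ => ?_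
        rw [← zero_mul (y₁ j), ← h0 j, Finset.sum_mul]
        exact Finset.sum_congr rfl fun i _ => (mul_assoc _ _ _).symm
      have e : ((∏ i, s₁ i) * ∏ j', s₀ j') * z =
          ∑ i, algebraMap A C (r i) * ((∏ i', s₁ i') * κ i) := by
        calc ((∏ i, s₁ i) * ∏ j', s₀ j') * z = (∏ i, s₁ i) * ((∏ j', s₀ j') * z -
              ∑ i, algebraMap A C (r i) * ∑ j, algebraMap A C (Nm i j) * y₁ j) := by rw [h1, sub_zero, mul_assoc]
          _ = _ := by
            rw [hz, Finset.mul_sum Finset.univ _ (∏ j', s₀ j'), ← Finset.sum_sub_distrib,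
              Finset.mul_sum Finset.univ _ (∏ i, s₁ i)]
            exact Finset.sum_congr rfl fun i _ => by simp only [κ]; ring
      rw [e]
      refine Ideal.sum_mem _ fun i _ => Ideal.mul_mem_mul (Ideal.mem_map_of_mem _ (hrm i)) ?_
      rw [← Finset.prod_erase_mul _ _ (Finset.mem_univ i), mul_assoc]
      exact Ideal.mul_mem_left _ _ (hs₁K i)
  -- the geometric fibre of the chart
  let W := L ⊗[A] C
  let ΛW : W →ₐ[L] PS := Algebra.TensorProduct.lift (Algebra.ofId L _) Λ fun _ _ => Commute.all _ _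
  have hΛW : ∀ c, ΛW ((1 : L) ⊗ₜ[A] c) = Λ c := fun c => by
    show Algebra.TensorProduct.lift _ Λ _ _ = _
    rw [Algebra.TensorProduct.lift_tmul, map_one, one_mul]
  let MC : Ideal W := m.comap ΛW.toRingHom
  have hMC : ∀ w, w ∈ MC ↔ cc (ΛW w) = 0 := fun w => hccm _
  let z : Fin N → W := fun i => (1 : L) ⊗ₜ[A] t i - algebraMap L W (cc (θ i))
  have hccC : ∀ l : L, cc (algebraMap L PS l) = l := fun l => MvPowerSeries.constantCoeff_C l
  have hres : ∀ w : W, ∃ l : L, w - algebraMap L W l ∈ MC := fun w =>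
    ⟨cc (ΛW w), (hMC _).2 (by rw [map_sub, map_sub, AlgHom.commutes, hccC, sub_self])⟩
  have hzM : ∀ i, z i ∈ MC := fun i => (hMC _).2 (by
    simp only [z]; rw [map_sub, map_sub, hΛW, hΛt, AlgHom.commutes, hccC, sub_self])
  have hMle : MC ≤ Ideal.span (Set.range z) ⊔ MC ^ 2 := by
    let I : Ideal W := Ideal.span (Set.range z) ⊔ MC ^ 2
    let R' := W ⧸ I
    let j : C →+* R' := (Ideal.Quotient.mk I).comp (Algebra.TensorProduct.includeRight (R := A) (A := L) (B := C)).toRingHom
    letI : Algebra S R' := (j.comp (algebraMap S C)).toAlgebra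
    let g₁ : C →ₐ[S] R' := { j with commutes' := fun _ => rfl }
    let r : C →+* R' := ((Ideal.Quotient.mk I).comp (algebraMap L W)).comp (cc.comp Λ.toRingHom)
    have hr : r.comp (algebraMap S C) = j.comp (algebraMap S C) := by
      refine MvPolynomial.ringHom_ext (fun a => ?_) fun i => ?_
      · show Ideal.Quotient.mk I (algebraMap L W (cc (Λ (algebraMap A C a)))) =
          Ideal.Quotient.mk I ((1 : L) ⊗ₜ[A] algebraMap A C a)
        rw [AlgHom.commutes, IsScalarTower.algebraMap_apply A L PS, hccC, ← IsScalarTower.algebraMap_apply,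
          ← Algebra.TensorProduct.includeRight_apply, AlgHom.commutes]
      · show Ideal.Quotient.mk I (algebraMap L W (cc (Λ (t i)))) = Ideal.Quotient.mk I ((1 : L) ⊗ₜ[A] t i)
        rw [hΛt, eq_comm, Ideal.Quotient.eq]
        exact Ideal.mem_sup_left (Ideal.subset_span ⟨i, rfl⟩)
    let g₂ : C →ₐ[S] R' := { r with commutes' := fun s => RingHom.congr_fun hr s }
    let J' : Ideal R' := MC.map (Ideal.Quotient.mk I)
    have hJ2 : J' ^ 2 = ⊥ := by
      rw [← Ideal.map_pow, Ideal.map_eq_bot_iff_le_ker, Ideal.mk_ker]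
      exact le_sup_right
    have hc1 : ∀ c, (1 : L) ⊗ₜ[A] c - algebraMap L W (cc (Λ c)) ∈ MC := fun c =>
      (hMC _).2 (by rw [map_sub, map_sub, hΛW, AlgHom.commutes, hccC, sub_self])
    have h12 : g₁ = g₂ := Algebra.FormallyUnramified.comp_injective (R := S) (A := C) J' hJ2 (AlgHom.ext fun c => by
      show Ideal.Quotient.mk J' (j c) = Ideal.Quotient.mk J' (r c)
      rw [Ideal.Quotient.eq]
      show Ideal.Quotient.mk I _ - Ideal.Quotient.mk I _ ∈ J'
      rw [← map_sub]
      exact Ideal.mem_map_of_mem _ (hc1 c))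
    have key : ∀ w : W, w - algebraMap L W (cc (ΛW w)) ∈ I := fun w => by
      induction w using TensorProduct.induction_on with
      | zero => simp
      | tmul l c =>
        have h := AlgHom.congr_fun h12 c
        have h' : (1 : L) ⊗ₜ[A] c - algebraMap L W (cc (Λ c)) ∈ I := Ideal.Quotient.eq.1 h
        have e : l ⊗ₜ[A] c = algebraMap L W l * ((1 : L) ⊗ₜ[A] c) := by
          rw [Algebra.TensorProduct.algebraMap_apply, Algebra.TensorProduct.tmul_mul_tmul]; simp
        rw [e, map_mul ΛW, AlgHom.commutes, hΛW, map_mul cc, hccC, map_mul, ← mul_sub]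
        exact Ideal.mul_mem_left _ _ h'
      | add x y hx hy => rw [map_add, map_add, map_add, add_sub_add_comm]; exact add_mem hx hy
    intro w hw
    have := key w
    rwa [(hMC w).1 hw, map_zero, sub_zero] at this
  have hgen : m ≤ Ideal.span (Set.range fun i => ΛW (z i)) ⊔ m ^ 2 := by
    refine le_trans ?_ le_sup_left
    refine (span_X_le_of_lin hJ).trans (Ideal.span_mono ?_)
    rintro _ ⟨i, rfl⟩
    refine ⟨i, ?_⟩
    simp only [z]
    rw [map_sub, hΛW, hΛt, AlgHom.commutes]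
    rfl
  obtain ⟨hWiff, hWdense⟩ := truncations MC hres z hzM hMle ΛW (fun x hx => hx) hgen
  -- the equation
  let Wg := L ⊗[A] Af
  let ιg : L ⊗[A] B₀ →ₐ[L] Wg := Algebra.TensorProduct.map (AlgHom.id L L) (IsScalarTower.toAlgHom A B₀ Af)
  let πW : W →ₐ[L] Wg := Algebra.TensorProduct.map (AlgHom.id L L) ψR
  let ψg : Wg →ₐ[L] T := Algebra.TensorProduct.lift (Algebra.ofId L _) Ψ fun _ _ => Commute.all _ _
  have hψgι : ∀ x, ψg (ιg x) = ψ x := AlgHom.congr_fun (show ψg.comp ιg = ψ from Algebra.TensorProduct.ext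
    (AlgHom.ext fun l => ((ψg.comp ιg).commutes l).trans (ψ.commutes l).symm) (AlgHom.ext fun b => by
      show ψg (ιg ((1 : L) ⊗ₜ[A] b)) = ψ ((1 : L) ⊗ₜ[A] b)
      show ψg ((1 : L) ⊗ₜ[A] algebraMap B₀ Af b) = _
      show Algebra.TensorProduct.lift _ Ψ _ _ = _
      rw [Algebra.TensorProduct.lift_tmul, map_one, one_mul, hΨ, hψ₁]))
  have hψgπ : ∀ w, ψg (πW w) = q (ΛW w) := AlgHom.congr_fun (show ψg.comp πW = q.comp ΛW from Algebra.TensorProduct.ext
    (AlgHom.ext fun l => ((ψg.comp πW).commutes l).trans ((q.comp ΛW).commutes l).symm) (AlgHom.ext fun c => by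
      show ψg (πW ((1 : L) ⊗ₜ[A] c)) = q (ΛW ((1 : L) ⊗ₜ[A] c))
      rw [hΛW, hqΛ]
      show Algebra.TensorProduct.lift _ Ψ _ ((1 : L) ⊗ₜ[A] ψR c) = _
      rw [Algebra.TensorProduct.lift_tmul, map_one, one_mul]))
  have hπWs : Function.Surjective πW := LinearMap.lTensor_surjective L hψ'
  let gW : Wg := ιg ((1 : L) ⊗ₜ[A] g)
  have hgW : IsUnit gW := by
    show IsUnit (ιg ((1 : L) ⊗ₜ[A] g))
    rw [Algebra.TensorProduct.map_tmul]
    exact ((IsLocalization.Away.algebraMap_isUnit (S := Af) g).map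
      (Algebra.TensorProduct.includeRight (R := A) (A := L) (B := Af)))
  have hWgs : ∀ x : Wg, ∃ (e : ℕ) (w : L ⊗[A] B₀), gW ^ e * x = ιg w := fun x => by
    induction x using TensorProduct.induction_on with
    | zero => exact ⟨0, 0, by simp⟩
    | tmul l y =>
      obtain ⟨b, e, hb⟩ := hsurjAf y
      refine ⟨e, l ⊗ₜ[A] b, ?_⟩
      show ((1 : L) ⊗ₜ[A] algebraMap B₀ Af g) ^ e * (l ⊗ₜ[A] y) = l ⊗ₜ[A] algebraMap B₀ Af b
      rw [Algebra.TensorProduct.tmul_pow, one_pow, Algebra.TensorProduct.tmul_mul_tmul, one_mul, mul_comm, hb]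
    | add x y hx hy =>
      obtain ⟨e, w, hw⟩ := hx
      obtain ⟨e', w', hw'⟩ := hy
      refine ⟨e + e', ((1 : L) ⊗ₜ[A] g) ^ e' * w + ((1 : L) ⊗ₜ[A] g) ^ e * w', ?_⟩
      rw [map_add, map_mul, map_mul, map_pow, map_pow, ← hw, ← hw']
      ring
  have hqpow : ∀ j y, y ∈ m ^ j → q y ∈ mT f ^ j := fun j y hy => by
    have := Ideal.mem_map_of_mem (Ideal.Quotient.mk (Ideal.span {f})) hy
    rwa [Ideal.map_pow] at this
  obtain ⟨F, hFK, hF3⟩ : ∃ F ∈ K, Λ F ∉ m ^ 3 := by
    by_contra hcon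
    push_neg at hcon
    obtain ⟨w, hw⟩ := hWdense 3 f
    have h1 : q (ΛW w) ∈ mT f ^ 3 := by
      have h := hqpow 3 _ hw
      rw [map_sub, show q f = 0 from Ideal.Quotient.eq_zero_iff_mem.2 (Ideal.mem_span_singleton_self f), zero_sub,
        neg_mem_iff] at h
      exact h
    obtain ⟨e, w₀, hw₀⟩ := hWgs (πW w)
    have h2 : w₀ ∈ ((mT f).comap ψ.toRingHom) ^ 3 := by
      rw [← hψker, ← hψgι, ← hw₀, map_mul, hψgπ]
      exact Ideal.mul_mem_left _ _ h1
    have h3 : ((mT f).comap ψ.toRingHom).map ιg.toRingHom ≤ MC.map πW.toRingHom := by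
      refine Ideal.map_le_iff_le_comap.2 fun x hx => ?_
      obtain ⟨v, hv⟩ := hπWs (ιg x)
      show ιg x ∈ MC.map πW.toRingHom
      rw [← hv]
      refine Ideal.mem_map_of_mem _ ?_
      show ΛW v ∈ m
      rw [← hmT, ← hψgπ, hv, hψgι]
      exact hx
    have h4 : πW w ∈ (MC ^ 3).map πW.toRingHom := by
      rw [← Ideal.unit_mul_mem_iff_mem _ (hgW.pow e), hw₀, Ideal.map_pow]
      refine Ideal.pow_right_mono h3 3 ?_
      rw [← Ideal.map_pow]
      exact Ideal.mem_map_of_mem _ h2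
    obtain ⟨m3, hm3, hm3e⟩ := (Ideal.mem_map_iff_of_surjective _ hπWs).1 h4
    have h5 : w - m3 ∈ RingHom.ker (Algebra.TensorProduct.map (AlgHom.id A L) ψR) := by
      show πW (w - m3) = 0
      rw [map_sub, show πW m3 = πW w from hm3e, sub_self]
    rw [Algebra.TensorProduct.lTensor_ker ψR hψ'] at h5
    have h6 : (RingHom.ker ψR).map (Algebra.TensorProduct.includeRight : C →ₐ[A] W) ≤ (m ^ 3).comap ΛW.toRingHom :=
      Ideal.map_le_iff_le_comap.2 fun x hx => by
        show ΛW ((1 : L) ⊗ₜ[A] x) ∈ m ^ 3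
        rw [hΛW]; exact hcon x hx
    have h7 : ΛW w ∈ m ^ 3 := by
      have := add_mem (show ΛW (w - m3) ∈ m ^ 3 from h6 h5) ((hWiff 3 m3).2 hm3)
      rwa [map_sub, sub_add_cancel] at this
    have h8 : f ∈ m ^ 3 := sub_add_cancel f (ΛW w) ▸ add_mem hw h7
    have h9 : ∀ i j, VanCyc.quadPart f i j = 0 := fun i j => by
      unfold VanCyc.quadPart
      split_ifs with e1 e2
      · exact EGA43.HenselCompare.ordGE_of_mem_pow h8 _ (by simp)
      · exact EGA43.HenselCompare.ordGE_of_mem_pow h8 _ (by simp)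
      · rfl
    obtain ⟨i₀, j₀, hij⟩ := hR3 f hf
    exact hij (h9 i₀ j₀)
  have hKf : ∀ x ∈ K, ∃ v, Λ x = v * f := fun x hx => by
    have : q (Λ x) = 0 := by rw [hqΛ, show ψR x = 0 from hx, map_zero]
    obtain ⟨v, hv⟩ := Ideal.mem_span_singleton'.1 (Ideal.Quotient.eq_zero_iff_mem.1 this)
    exact ⟨v, hv.symm⟩
  obtain ⟨v, hv⟩ := hKf F hFK
  have hf2 : f ∈ m ^ 2 := EGA43.HenselCompare.mem_pow_of_ordGE fun d hd => by
    rcases Nat.lt_succ_iff.1 hd |>.eq_or_lt with h1 | h1
    · obtain ⟨j, rfl⟩ : d ∈ Set.range fun a => Finsupp.single a 1 := by rw [Finsupp.range_single_one]; exact h1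
      exact hlow.2 j
    · obtain rfl : d = 0 := (Finsupp.degree_eq_zero_iff d).1 (by omega)
      rw [MvPowerSeries.coeff_zero_eq_constantCoeff_apply, hlow.1]
  have hv0 : cc v ≠ 0 := fun h => hF3 (by
    rw [hv, pow_succ']
    exact Ideal.mul_mem_mul ((hccm v).2 h) hf2)
  have hvu : IsUnit v := MvPowerSeries.isUnit_iff_constantCoeff.2 (isUnit_iff_ne_zero.2 hv0)
  -- descent
  have hdesc : ∀ x ∈ K, ∃ c₁ c₂ : C, IsUnit (π c₁) ∧ c₁ * x - c₂ * F ∈ mC := by
    intro x hx
    obtain ⟨vx, hvx⟩ := hKf x hx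
    haveI : IsNoetherianRing W := Algebra.FiniteType.isNoetherianRing L W
    let I : Ideal W := Ideal.span {(1 : L) ⊗ₜ[A] F}
    have hmem : ∀ j : ℕ, Ideal.Quotient.mk I ((1 : L) ⊗ₜ[A] x) ∈ (MC ^ j • ⊤ : Submodule W (W ⧸ I)) := by
      intro j
      obtain ⟨w, hw⟩ := hWdense j (vx * ((hvu.unit⁻¹ : PSˣ) : PS))
      have h1 : (1 : L) ⊗ₜ[A] x - w * ((1 : L) ⊗ₜ[A] F) ∈ MC ^ j := by
        rw [← hWiff, map_sub, map_mul, hΛW, hΛW, hvx, hv]
        have hu : ((hvu.unit⁻¹ : PSˣ) : PS) * v = 1 := hvu.val_inv_mul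
        rw [show vx * f - ΛW w * (v * f) = (vx * ((hvu.unit⁻¹ : PSˣ) : PS) - ΛW w) * (v * f) by
          linear_combination (-vx * f) * hu]
        exact Ideal.mul_mem_right _ _ hw
      have h2 : Ideal.Quotient.mk I ((1 : L) ⊗ₜ[A] x) =
          ((1 : L) ⊗ₜ[A] x - w * ((1 : L) ⊗ₜ[A] F)) • (1 : W ⧸ I) := by
        rw [show ((1 : L) ⊗ₜ[A] x - w * ((1 : L) ⊗ₜ[A] F)) • (1 : W ⧸ I) = Ideal.Quotient.mk I ((1 : L) ⊗ₜ[A] x - w * ((1 : L) ⊗ₜ[A] F)) * 1 from rfl,
          mul_one, Ideal.Quotient.eq, sub_sub_cancel]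
        exact Ideal.mul_mem_left _ _ (Ideal.mem_span_singleton_self _)
      rw [h2]
      exact Submodule.smul_mem_smul h1 trivial
    obtain ⟨⟨r, hr⟩, hrx⟩ := (Ideal.mem_iInf_smul_pow_eq_bot_iff MC
      (Ideal.Quotient.mk I ((1 : L) ⊗ₜ[A] x))).1 (Submodule.mem_iInf _ |>.2 hmem)
    obtain ⟨yF, hyF⟩ := Ideal.mem_span_singleton'.1 (show (1 - r) * ((1 : L) ⊗ₜ[A] x) ∈ I by
      rw [← Ideal.Quotient.eq_zero_iff_mem, map_mul, map_sub, map_one, sub_mul, one_mul, sub_eq_zero]
      exact hrx.symm)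
    have hs : cc (ΛW (1 - r)) ≠ 0 := by
      rw [map_sub, map_one, map_sub, map_one, (hMC r).1 hr, sub_zero]; exact one_ne_zero
    let Cb := C ⧸ mC
    letI : Algebra k Cb := (Ideal.Quotient.lift (maximalIdeal A) ((Ideal.Quotient.mk mC).comp (algebraMap A C))
      fun a ha => Ideal.Quotient.eq_zero_iff_mem.2 (Ideal.mem_map_of_mem _ ha)).toAlgebra
    haveI : IsScalarTower A k Cb := IsScalarTower.of_algebraMap_eq fun _ => rfl
    let χb : Cb →+* L := Ideal.Quotient.lift mC (cc.comp Λ.toRingHom) fun c hc => by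
      refine (Ideal.map_le_iff_le_comap.2 fun a ha => ?_ : mC ≤ RingHom.ker (cc.comp Λ.toRingHom)) hc
      show cc (Λ (algebraMap A C a)) = 0
      rw [AlgHom.commutes, IsScalarTower.algebraMap_apply A L PS, hccC, IsScalarTower.algebraMap_apply A k L,
        show algebraMap A k a = 0 from Ideal.Quotient.eq_zero_iff_mem.2 ha, map_zero]
    let bL := Module.Free.chooseBasis k L
    let Φ : W →ₗ[A] (Module.Free.ChooseBasisIndex k L →₀ Cb) := TensorProduct.lift (LinearMap.mk₂ A
      (fun l c => (bL.repr l).mapRange (fun r => r • Ideal.Quotient.mk mC c) (zero_smul _ _))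
      (fun l l' c => by ext i; simp [add_smul])
      (fun a l c => by
        ext i
        rw [← IsScalarTower.algebraMap_smul k a l, map_smul, ← IsScalarTower.algebraMap_smul k a (M := _ →₀ Cb)]
        simp [mul_smul])
      (fun l c c' => by ext i; simp)
      (fun a l c => by
        ext i
        simp only [Finsupp.mapRange_apply, Finsupp.smul_apply]
        rw [show Ideal.Quotient.mk mC (a • c) = a • Ideal.Quotient.mk mC c from
          (Ideal.Quotient.mkₐ A mC).toLinearMap.map_smul a c, smul_comm]))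
    have hΦ : ∀ l c i, Φ (l ⊗ₜ[A] c) i = bL.repr l i • Ideal.Quotient.mk mC c := fun l c i =>
      Finsupp.mapRange_apply (f := fun r : k => r • Ideal.Quotient.mk mC c) (hf := zero_smul k _)
    have hΦmul : ∀ (w : W) (c : C) i, Φ (w * ((1 : L) ⊗ₜ[A] c)) i = Φ w i * Ideal.Quotient.mk mC c := fun w c i => by
      induction w using TensorProduct.induction_on with
      | zero => simp
      | tmul l c' => rw [Algebra.TensorProduct.tmul_mul_tmul, mul_one, hΦ, hΦ, map_mul, smul_mul_assoc]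
      | add a b ha hb => rw [add_mul, map_add, Finsupp.add_apply, ha, hb, map_add, Finsupp.add_apply, add_mul]
    have hχΦ : ∀ w, cc (ΛW w) = (Φ w).sum fun i d => bL i * χb d := fun w => by
      induction w using TensorProduct.induction_on with
      | zero => simp
      | tmul l c =>
        rw [show ΛW (l ⊗ₜ[A] c) = algebraMap L PS l * Λ c from Algebra.TensorProduct.lift_tmul _ _ _ _ _, map_mul, hccC]
        have e : ∀ r : k, χb (r • Ideal.Quotient.mk mC c) = algebraMap k L r * cc (Λ c) := fun r => by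
          obtain ⟨a, rfl⟩ := residue_surjective r
          rw [show residue A a • Ideal.Quotient.mk mC c = Ideal.Quotient.mk mC (algebraMap A C a * c) from rfl]
          show cc (Λ (algebraMap A C a * c)) = _
          rw [map_mul, map_mul, AlgHom.commutes, IsScalarTower.algebraMap_apply A L PS, hccC,
            IsScalarTower.algebraMap_apply A k L]
          rfl
        rw [show Φ (l ⊗ₜ[A] c) = (bL.repr l).mapRange (fun r => r • Ideal.Quotient.mk mC c) (zero_smul _ _) from rfl,
          Finsupp.sum_mapRange_index (fun i => by rw [map_zero, mul_zero])]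
        simp only [e]
        conv_lhs => rw [← bL.linearCombination_repr l, Finsupp.linearCombination_apply, Finsupp.sum, Finset.sum_mul]
        exact Finset.sum_congr rfl fun i _ => by rw [Algebra.smul_def]; ring
      | add a b ha hb =>
        rw [map_add, map_add, ha, hb, map_add, Finsupp.sum_add_index' (fun i => by simp) (fun i a b => by simp [mul_add])]
    obtain ⟨i, hi⟩ : ∃ i, χb (Φ (1 - r) i) ≠ 0 := by
      by_contra h
      push_neg at h
      exact hs (by rw [hχΦ]; exact Finset.sum_eq_zero fun i _ => show bL i * χb (Φ (1 - r) i) = 0 by rw [h i, mul_zero])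
    obtain ⟨c₁, hc₁⟩ := Ideal.Quotient.mk_surjective (Φ (1 - r) i)
    obtain ⟨c₂, hc₂⟩ := Ideal.Quotient.mk_surjective (Φ yF i)
    refine ⟨c₁, c₂, (hQ _).2 (by rw [← hc₁] at hi; exact hi), ?_⟩
    rw [← Ideal.Quotient.eq, map_mul, map_mul, hc₁, hc₂, ← hΦmul, ← hΦmul, ← hyF]
  -- Nakayama
  let Q : Ideal C := (maximalIdeal B).comap π.toRingHom
  haveI hQp : Q.IsPrime := Ideal.IsPrime.comap _
  have hQu : ∀ c, c ∉ Q ↔ IsUnit (π c) := fun c => by
    show ¬ (π c ∈ maximalIdeal B) ↔ _
    rw [mem_maximalIdeal, mem_nonunits_iff, not_not]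
  let CQ := Localization.AtPrime Q
  let φ : C →+* CQ := algebraMap C CQ
  let KL : Ideal CQ := K.map φ
  have hu : ∀ c, IsUnit (π c) → IsUnit (φ c) := fun c hc =>
    IsLocalization.map_units CQ (⟨c, (hQu c).2 hc⟩ : Q.primeCompl)
  have hmCQ : mC ≤ Q := Ideal.map_le_iff_le_comap.2 fun a ha => by
    show π (algebraMap A C a) ∈ maximalIdeal B
    rw [AlgHom.commutes, IsScalarTower.algebraMap_apply A B₀ B, ← Ideal.mem_comap]
    exact (SetLike.ext_iff.1 (Localization.AtPrime.under_maximalIdeal (I := P)) _).2 (hP (Ideal.mem_map_of_mem _ ha))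
  have hKL : KL ≤ Ideal.span {φ F} ⊔ maximalIdeal CQ • KL := by
    refine Ideal.map_le_iff_le_comap.2 fun x hx => ?_
    obtain ⟨c₁, c₂, hc₁, hc⟩ := hdesc x hx
    obtain ⟨s, hs, hsz⟩ := hflat _ (sub_mem (Ideal.mul_mem_left _ _ hx) (Ideal.mul_mem_left _ _ hFK)) hc
    have h2 : φ (s * (c₁ * x - c₂ * F)) ∈ maximalIdeal CQ • KL := by
      have := Ideal.mem_map_of_mem φ hsz
      rw [Ideal.map_mul] at this
      refine Ideal.mul_mono_left ?_ this
      rw [← Localization.AtPrime.map_eq_maximalIdeal]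
      exact Ideal.map_mono hmCQ
    obtain ⟨u, hu'⟩ := ((hu s hs).mul (hu c₁ hc₁)).exists_left_inv
    rw [Ideal.mem_comap, show φ x = u * φ (s * c₂) * φ F + u * φ (s * (c₁ * x - c₂ * F)) by
      simp only [map_sub, map_mul]; linear_combination (-φ x) * hu']
    exact add_mem (Ideal.mem_sup_left (Ideal.mul_mem_left _ _ (Ideal.mem_span_singleton_self _)))
      (Ideal.mem_sup_right (Ideal.mul_mem_left (maximalIdeal CQ • KL) _ h2))
  have hKF : KL ≤ Ideal.span {φ F} :=
    Submodule.le_of_le_smul_of_le_jacobson_bot (hKfg.map φ) (IsLocalRing.maximalIdeal_le_jacobson _) hKL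
  have hπF : π F = 0 := by rw [hπ, show ψR F = 0 from hFK, map_zero]
  have hker : ∀ x, π x = 0 → ∃ s w, IsUnit (π s) ∧ s * x = w * F := fun x hx => by
    obtain ⟨s₁, hs₁, hs₁K⟩ := hπK x hx
    have h1 : φ (s₁ * x) ∈ (Ideal.span {F}).map φ := by
      rw [Ideal.map_span, Set.image_singleton]; exact hKF (Ideal.mem_map_of_mem φ hs₁K)
    obtain ⟨s, hs, hsz⟩ := (IsLocalization.algebraMap_mem_map_algebraMap_iff Q.primeCompl CQ _ _).1 h1
    obtain ⟨w, hw⟩ := Ideal.mem_span_singleton'.1 hsz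
    exact ⟨s * s₁, w, by rw [map_mul]; exact ((hQu s).1 hs).mul hs₁, by rw [mul_assoc]; exact hw.symm⟩
  -- the Jacobian
  letI : Algebra C PS := Λ.toRingHom.toAlgebra
  haveI : IsScalarTower A C PS := IsScalarTower.of_algebraMap_eq fun a => (Λ.commutes a).symm
  have hchain : ∀ (j : Fin N) (x : C),
      MvPowerSeries.pderiv L j (Λ x) = ∑ i, MvPowerSeries.pderiv L j (θ i) * Λ (ht.pd i x) := by
    intro j x
    have he := ht.derivation_ext (d := ((MvPowerSeries.pderiv L j).restrictScalars A).compAlgebraMap C)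
      (d' := ∑ i, MvPowerSeries.pderiv L j (θ i) • (Algebra.linearMap C PS).compDer (ht.pd i)) fun l => by
        show MvPowerSeries.pderiv L j (Λ (t l)) = _
        rw [hΛt, ← Derivation.coeFnAddMonoidHom_apply (∑ i, _ • _), map_sum, Finset.sum_apply,
          Finset.sum_eq_single l (fun i _ hi => ?_) fun h => absurd (Finset.mem_univ l) h]
        · show _ = MvPowerSeries.pderiv L j (θ l) * Λ (ht.pd l (t l))
          rw [ht.pd_coord, if_pos rfl, map_one, mul_one]
        · show MvPowerSeries.pderiv L j (θ i) * Λ (ht.pd i (t l)) = 0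
          rw [ht.pd_coord, if_neg hi, map_zero, mul_zero]
    refine (Derivation.congr_fun he x).trans ?_
    rw [← Derivation.coeFnAddMonoidHom_apply, map_sum, Finset.sum_apply]
    rfl
  have hcd : ∀ (j : Fin N) (y : PS), cc (MvPowerSeries.pderiv L j y) = MvPowerSeries.coeff (Finsupp.single j 1) y :=
    fun j y => by
      show MvPowerSeries.constantCoeff _ = _
      rw [← MvPowerSeries.coeff_zero_eq_constantCoeff_apply, MvPowerSeries.coeff_pderiv]
      simp
  let J : Matrix (Fin N) (Fin N) L := Matrix.of fun i j => lin (θ i) j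
  have hJc : ∀ i j, cc (MvPowerSeries.pderiv L j (θ i)) = J i j := fun i j => hcd j (θ i)
  let ξ : Fin N → L := fun i => cc (Λ (ht.pd i F))
  have hf1 : ∀ j, cc (MvPowerSeries.pderiv L j f) = 0 := fun j => by rw [hcd]; exact hlow.2 j
  have hccf : cc f = 0 := hlow.1
  have hξ : ξ = 0 := by
    have h1 : J.transpose.mulVec ξ = 0 := by
      funext j
      have := congrArg cc (hchain j F)
      rw [hv, Derivation.leibniz, smul_eq_mul, smul_eq_mul, map_add, map_mul, map_mul, hf1, hccf, map_sum] at this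
      simp only [map_mul, hJc, mul_zero, zero_mul, add_zero] at this
      simpa [Matrix.mulVec, dotProduct, ξ] using this.symm
    exact Matrix.eq_zero_of_mulVec_eq_zero (by rw [Matrix.det_transpose]; exact hJ.ne_zero) h1
  have hgrad : ∀ i, ¬ IsUnit (π (ht.pd i F)) := fun i hi => (hQ _).1 hi (congrFun hξ i)
  exact ⟨C, inferInstance, inferInstance, t, ht, π, F, hπF, hπs, hker, hgrad, f, Λ, v, hf, hv, hv0, hQ,
    by simpa only [hΛt] using hJ, fun j x => by simpa only [hΛt] using hchain j x⟩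

/-- Near a non-degenerate quadratic point of the closed fibre a flat family is cut out in étale
coordinates by one equation with non-degenerate critical point. -/
theorem exists_presentation (A : Type u) [CommRing A] [IsLocalRing A] (B₀ : Type u) [CommRing B₀] [Algebra A B₀]
    [Algebra.FinitePresentation A B₀] (P : Ideal B₀) [P.IsMaximal] (hP : (maximalIdeal A).map (algebraMap A B₀) ≤ P)
    (hPi : ∀ y : B₀, ∃ (e : ℕ) (c : A), y ^ ringExpChar (ResidueField A) ^ e - algebraMap A B₀ c ∈ P)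
    [Module.Flat A (Localization.AtPrime P)] (n : ℕ)
    (hq : VanCyc.IsNondegQuadPt (VanCyc.fibHom A (Localization.AtPrime P)) n) :
    ∃ (C : Type u) (_ : CommRing C) (_ : Algebra A C) (t : Fin (n + 1) → C) (h : IsFrame A t)
      (π : C →ₐ[A] Localization.AtPrime P) (F : C),
      π F = 0 ∧ (∀ b, ∃ c s, IsUnit (π s) ∧ π s * b = π c) ∧
      (∀ x, π x = 0 → ∃ s w, IsUnit (π s) ∧ s * x = w * F) ∧
      (∀ i, ¬ IsUnit (π (h.pd i F))) ∧ IsUnit (π (Matrix.of fun i j => h.pd i (h.pd j F)).det) := by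
  classical
  obtain ⟨C, _, _, t, ht, π, F, hπF, hπs, hker, hgrad, f, Λ, v, hf, hv, hv0, hQ, hJ, hchain⟩ :=
    exists_presentation_of A B₀ P hP hPi n VanCyc.NondegQuadSeries (fun _ h => h.1) (fun f hf => by
      by_contra hcon
      push_neg at hcon
      have h10 : VanCyc.polarMatrix (VanCyc.quadPart f) = 0 := by
        ext i j
        simp [VanCyc.polarMatrix, hcon]
      have h11 := hf.2
      unfold VanCyc.QuadNondeg at h11
      rw [h10, Matrix.det_zero] at h11
      exact not_isUnit_zero h11) hq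
  let L := AlgebraicClosure (ResidueField A)
  let N := n + 1
  let PS := MvPowerSeries (Fin N) L
  let cc : PS →+* L := MvPowerSeries.constantCoeff
  have hcd : ∀ (j : Fin N) (y : PS), cc (MvPowerSeries.pderiv L j y) = MvPowerSeries.coeff (Finsupp.single j 1) y :=
    fun j y => by
      show MvPowerSeries.constantCoeff _ = _
      rw [← MvPowerSeries.coeff_zero_eq_constantCoeff_apply, MvPowerSeries.coeff_pderiv]
      simp
  let J : Matrix (Fin N) (Fin N) L := Matrix.of fun i j => lin (Λ (t i)) j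
  have hJc : ∀ i j, cc (MvPowerSeries.pderiv L j (Λ (t i))) = J i j := fun i j => hcd j _
  have hchain : ∀ (j : Fin N) (x : C),
      MvPowerSeries.pderiv L j (Λ x) = ∑ i, MvPowerSeries.pderiv L j (Λ (t i)) * Λ (ht.pd i x) := hchain
  let ξ : Fin N → L := fun i => cc (Λ (ht.pd i F))
  have hf1 : ∀ j, cc (MvPowerSeries.pderiv L j f) = 0 := fun j => by rw [hcd]; exact hf.1.2 j
  have hccf : cc f = 0 := hf.1.1
  have hξ : ξ = 0 := funext fun i => by
    by_contra h; exact hgrad i ((hQ _).2 h)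
  let H : Matrix (Fin N) (Fin N) C := Matrix.of fun i j => ht.pd i (ht.pd j F)
  let H' : Matrix (Fin N) (Fin N) L := H.map (cc.comp Λ.toRingHom)
  have hfork : ∀ j l, cc (MvPowerSeries.pderiv L l (MvPowerSeries.pderiv L j f)) =
      VanCyc.polarMatrix (VanCyc.quadPart f) l j := fun j l => by
    rw [hcd, MvPowerSeries.coeff_pderiv]
    unfold VanCyc.polarMatrix VanCyc.quadPart
    rcases lt_trichotomy l j with h | h | h
    · rw [if_neg h.ne, if_pos h, if_neg h.ne, if_pos h, Finsupp.single_eq_of_ne h.ne']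
      simp
    · subst h
      rw [if_pos rfl, if_pos rfl, ← Finsupp.single_add, Finsupp.single_eq_same]
      push_cast
      ring_nf
    · rw [if_neg h.ne', if_neg (not_lt_of_gt h), if_neg h.ne, if_pos h, Finsupp.single_eq_of_ne h.ne, add_comm]
      simp
  have hG : (cc v) • VanCyc.polarMatrix (VanCyc.quadPart f) = J.transpose * H' * J := by
    ext l j
    have h2 := congrArg (fun y => cc (MvPowerSeries.pderiv L l y)) (hchain j F)
    simp only [hv, Derivation.leibniz, smul_eq_mul, map_add, map_mul, map_sum, hf1, hccf, mul_zero, zero_mul,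
      add_zero, hfork] at h2
    rw [Matrix.smul_apply, smul_eq_mul, h2, Matrix.mul_apply]
    refine Finset.sum_congr rfl fun i _ => ?_
    rw [show cc (Λ (ht.pd i F)) = 0 from congrFun hξ i]
    rw [hchain l (ht.pd i F), map_sum, Matrix.mul_apply]
    simp only [map_mul, hJc, Finset.mul_sum, Finset.sum_mul, Matrix.transpose_apply, mul_zero, zero_mul, add_zero, zero_add]
    exact Finset.sum_congr rfl fun l' _ => by simp [H', H]; ring
  have hdet : IsUnit (π H.det) := (hQ _).2 fun h0 => by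
    have h1 : H'.det = 0 := by
      show ((cc.comp Λ.toRingHom).mapMatrix H).det = 0
      rw [← RingHom.map_det]; exact h0
    have := congrArg Matrix.det hG
    rw [Matrix.det_smul, Matrix.det_mul, Matrix.det_mul, h1, mul_zero, zero_mul] at this
    exact mul_ne_zero (pow_ne_zero _ hv0) hf.2.ne_zero this
  exact ⟨C, inferInstance, inferInstance, t, ht, π, F, hπF, hπs, hker, hgrad, hdet⟩

end Groth.Agent.QuadFormH2
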